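import Cfsg.Agent.H77.RK.Mem
import Cfsg.Agent.H667.BR.Count
import Cfsg.Agent.H687.BR.ParE

/-!
# `E₇(q)`, `d = 3`: more members of `X0` (helper77)

* `sum_block_modEq` : the sum of the degrees of the constituents of `1_H^G` in the principal block is the number
  `cnt P (G ⧸ H)` modulo `p`;
* `qmem_E7_3` : if `cnt P (G ⧸ P_{E₆}) = 2` modulo `p` then the characters 1, 35, 7, 21, 56 are in `X0`.
-/

set_option autoImplicit false
set_option maxRecDepth 100000

namespace Cfsg.Agent.H77.RK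

open Cfsg Cfsg.Agent.Characters.Core CoxeterSystem Cfsg.Agent.ChevalleyStructure.CoxeterGeom Cfsg.Agent.Tits.Roots
  Cfsg.Agent.Tits.Core Cfsg.Agent.Nodes.Reps Cfsg.Agent.Nodes.BNOf Cfsg.Agent.Nodes.LeviDec Cfsg.Agent.Nodes.Bruhat
  Cfsg.Agent.H35.ExcIdx Cfsg.Lie Cfsg.Agent.Nodes.RGDChev Cfsg.Agent.ChevalleyStructure Cfsg.Agent.ChevalleyStructure.NPerm
  Cfsg.Agent.ChevalleyStructure.CoxeterGeomTypes
open Cfsg.Agent.H674.XZ (Mem0 tr1)
open Cfsg.Agent.H145.BR (cnt)

universe u v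

/-- **The counting formula.** -/
theorem sum_block_modEq {G : Type u} [Group G] [Fintype G] {p : ℕ} [hp : Fact p.Prime] {M : Ideal AlgInt}
    (hM : IsPModular p M) (P : Sylow p G) (X : Type v) [MulAction G X] [Finite X] {r : ℕ} {χ : Fin r → IrrCharacter G}
    (h0 : Function.Injective χ) (h1 : ∀ i, classInner (H116.HeckeD.perm G X) (χ i : G → ℂ) = 1)
    (h2 : ∀ ψ : IrrCharacter G, classInner (H116.HeckeD.perm G X) (ψ : G → ℂ) ≠ 0 → ∃ i, χ i = ψ)
    [DecidablePred fun i => χ i ∈ principalBlock M G] :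
    ∑ i with χ i ∈ principalBlock M G, charDegree (χ i : G → ℂ) ≡ cnt (P : Subgroup G) X [MOD p] := by
  classical
  have hfin : Finite (IrrCharacter G) := finite_irr
  let : Fintype (IrrCharacter G) := Fintype.ofFinite _
  have h3 := Cfsg.Agent.H667.BR.count X hM P
  refine Nat.ModEq.trans (Nat.ModEq.symm ?_) h3
  unfold Cfsg.Agent.H667.BR.bdeg
  have h4 : ∀ ψ : IrrCharacter G, (Cfsg.Agent.H667.BR.mult X ψ : ℂ) = classInner (H116.HeckeD.perm G X) (ψ : G → ℂ) :=
    fun ψ => (Cfsg.Agent.H667.BR.mult_eq X ψ).symm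
  have h5 : ∀ i, Cfsg.Agent.H667.BR.mult X (χ i) = 1 := by
    intro i
    have e1 := h4 (χ i)
    rw [h1] at e1
    exact_mod_cast e1
  have h6 : ∑ ψ ∈ Finset.univ.image χ, (if ψ ∈ principalBlock M G then
      charDegree (ψ : G → ℂ) * Cfsg.Agent.H667.BR.mult X ψ else 0) =
      ∑ i with χ i ∈ principalBlock M G, charDegree (χ i : G → ℂ) := by
    rw [Finset.sum_image fun x _ y _ h => h0 h, Finset.sum_filter]
    refine Finset.sum_congr rfl fun i _ => ?_
    rw [h5, mul_one]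
    split_ifs <;> rfl
  rw [← h6]
  have h7 : ∀ a b : ℕ, a = b → b ≡ a [MOD p] := fun a b h => by rw [h]
  refine h7 _ _ ?_
  refine Finset.sum_subset (Finset.subset_univ _) fun ψ _ hψ => ?_
  have e2 : Cfsg.Agent.H667.BR.mult X ψ = 0 := by
    by_contra hne
    obtain ⟨i, hi⟩ := h2 ψ (by rw [← h4]; exact_mod_cast hne)
    exact hψ (Finset.mem_image.2 ⟨i, Finset.mem_univ _, hi⟩)
  rw [e2, mul_zero, ite_self]

/-- **Common constituents**, with the candidates `S'`. -/
theorem exists_eq_of_card_le {Y : Type*} [Group Y] [Fintype Y] (X X' : Type*) [MulAction Y X] [MulAction Y X'] [Finite X]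
    [Finite X'] {r r' : ℕ} {χ : Fin r → IrrCharacter Y}
    (h1 : ∀ i, classInner (H116.HeckeD.perm Y X) (χ i : Y → ℂ) = 1)
    (h2 : ∀ ψ : IrrCharacter Y, classInner (H116.HeckeD.perm Y X) (ψ : Y → ℂ) ≠ 0 → ∃ i, χ i = ψ)
    {χ' : Fin r' → IrrCharacter Y} (h0' : Function.Injective χ')
    (h1' : ∀ i, classInner (H116.HeckeD.perm Y X') (χ' i : Y → ℂ) = 1)
    (h2' : ∀ ψ : IrrCharacter Y, classInner (H116.HeckeD.perm Y X') (ψ : Y → ℂ) ≠ 0 → ∃ i, χ' i = ψ)
    (S' : Finset (Fin r')) (hS : ∀ i ∉ S', ∀ j, χ j ≠ χ' i)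
    (hr : S'.card ≤ Nat.card (MulAction.orbitRel.Quotient Y (X' × X))) (i : Fin r') (hi : i ∈ S') : ∃ j, χ j = χ' i := by
  classical
  have hfin : Finite (IrrCharacter Y) := finite_irr
  let : Fintype (IrrCharacter Y) := Fintype.ofFinite _
  have : Fintype X := Fintype.ofFinite _
  have : Fintype X' := Fintype.ofFinite _
  obtain ⟨b, hb⟩ := exists_nat_comb (H116.HeckeD.isCharacter_perm (G := Y) X')
  have hb1 : ∀ ψ : IrrCharacter Y, classInner (H116.HeckeD.perm Y X') (ψ : Y → ℂ) = b ψ := by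
    intro ψ
    rw [hb, classInner_sum_nsmul_irr]
  have ha : ∀ ψ : IrrCharacter Y, ∃ a : ℕ, a ≤ 1 ∧ classInner (H116.HeckeD.perm Y X) (ψ : Y → ℂ) = a := by
    intro ψ
    by_cases h : classInner (H116.HeckeD.perm Y X) (ψ : Y → ℂ) = 0
    · exact ⟨0, by norm_num, by rw [h, Nat.cast_zero]⟩
    · obtain ⟨j, rfl⟩ := h2 ψ h
      exact ⟨1, le_rfl, by rw [h1, Nat.cast_one]⟩
  choose a ha1 ha using ha
  have h3 : (Nat.card (MulAction.orbitRel.Quotient Y (X × X')) : ℂ) = ∑ ψ : IrrCharacter Y, (b ψ : ℂ) * a ψ := by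
    rw [← classInner_perm_perm, hb, classInner_sum_right]
    refine Finset.sum_congr rfl fun ψ _ => ?_
    rw [← Nat.cast_smul_eq_nsmul ℂ, classInner_smul_right, map_natCast, ha]
  have h4 : Nat.card (MulAction.orbitRel.Quotient Y (X × X')) = Nat.card (MulAction.orbitRel.Quotient Y (X' × X)) := by
    have e1 := classInner_perm_perm (Y := Y) X X'
    have e2 := classInner_perm_perm (Y := Y) X' X
    rw [← classInner_conj_symm, e2, map_natCast] at e1
    exact_mod_cast e1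
  have h5 : ∑ ψ : IrrCharacter Y, b ψ * a ψ = ∑ i : Fin r', a (χ' i) := by
    have e1 : ∑ ψ ∈ Finset.univ.image χ', b ψ * a ψ = ∑ i : Fin r', a (χ' i) := by
      rw [Finset.sum_image fun x _ y _ h => h0' h]
      refine Finset.sum_congr rfl fun i _ => ?_
      have e2 : b (χ' i) = 1 := by
        have e3 := hb1 (χ' i)
        rw [h1'] at e3
        exact_mod_cast e3.symm
      rw [e2, one_mul]
    rw [← e1]
    symm
    refine Finset.sum_subset (Finset.subset_univ _) fun ψ _ hψ => ?_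
    have e2 : b ψ = 0 := by
      by_contra hne
      obtain ⟨i, hi⟩ := h2' ψ (by rw [hb1]; exact_mod_cast hne)
      exact hψ (Finset.mem_image.2 ⟨i, Finset.mem_univ _, hi⟩)
    rw [e2, zero_mul]
  have h6 : S'.card ≤ ∑ i : Fin r', a (χ' i) := by
    rw [← h5]
    have e1 : ((Nat.card (MulAction.orbitRel.Quotient Y (X × X')) : ℕ) : ℂ) = ((∑ ψ : IrrCharacter Y, b ψ * a ψ : ℕ) : ℂ) := by
      rw [h3]
      push_cast
      rfl
    have e2 := Nat.cast_injective (R := ℂ) e1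
    rw [← e2, h4]
    exact hr
  have h8 : ∑ i : Fin r', a (χ' i) = ∑ i ∈ S', a (χ' i) := by
    symm
    refine Finset.sum_subset (Finset.subset_univ _) fun j _ hj => ?_
    by_contra hne
    obtain ⟨j', hj'⟩ := h2 (χ' j) (by rw [ha]; exact_mod_cast hne)
    exact hS j hj j' hj'
  have h7 : a (χ' i) ≠ 0 := by
    intro h0
    have e1 : ∑ i ∈ S', a (χ' i) < ∑ i ∈ S', 1 :=
      Finset.sum_lt_sum (fun i _ => ha1 _) ⟨i, hi, by rw [h0]; norm_num⟩
    rw [Finset.sum_const, smul_eq_mul, mul_one] at e1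
    omega
  exact h2 (χ' i) (by rw [ha]; exact_mod_cast h7)

/-- **The number of orbits**, untwisted groups. -/
theorem Cert.le_orbits_chev {c : Cert} (hc : c.Ok) {D : ChevalleyDatum} {l : ℕ}
    (hl : c.l = l) {M : CoxeterMatrix (Fin l)} (hp : IsType D l M)
    (hAA : ∀ i j : Fin l, cartanOf D l i j = c.A (Fin.cast hl.symm i) (Fin.cast hl.symm j))
    (K : Type u) [Field K] [Fintype K] {k0 k0' : Fin l} (hk0 : k0.val = c.k) {a Z : List ℕ}
    (hF : c.chkF a k0'.val Z = true) :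
    Z.length ≤ Nat.card (MulAction.orbitRel.Quotient ↥(D.group K)
      ((↥(D.group K) ⧸ PJ M.toCoxeterSystem hp.isCartan (TT D K) (XX D l K) {j | j ≠ k0'}) ×
      (↥(D.group K) ⧸ PJ M.toCoxeterSystem hp.isCartan (TT D K) (XX D l K) {j | j ≠ k0}))) := by
  subst hl
  obtain ⟨p, hpc⟩ := CharP.exists K
  have hpp : Fact p.Prime := ⟨CharP.char_is_prime K p⟩
  have hfin : Finite M.Group := finite_W hp M.toCoxeterSystem
  have R := rgd (K := K) hp M.toCoxeterSystem p
  have hk1 : k0 = ⟨c.k, hc.hk⟩ := Fin.ext hk0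
  subst hk1
  unfold Cert.chkF at hF
  simp only [Bool.and_eq_true, allN_iff, Bool.or_eq_true, decide_eq_true_eq, List.all_eq_true] at hF
  obtain ⟨hF1, hF2, hF3⟩ := hF
  have hA : cartanOf D c.l = c.A := funext fun i => funext fun j => hAA i j
  have e1 : ∀ (A : Fin c.l → Fin c.l → ℤ) (h : IsCartan M A) (_ : A = c.A) (T : Subgroup ↥(D.group K))
      (n : Fin c.l → ↥(D.group K)) (X : (Fin c.l → ℤ) → Subgroup ↥(D.group K))
      (R : RGD M.toCoxeterSystem h p T n X), RGD.B M.toCoxeterSystem h T X ⊔ NN M.toCoxeterSystem R.nsys = ⊤ →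
      Z.length ≤ Nat.card (MulAction.orbitRel.Quotient ↥(D.group K)
        ((↥(D.group K) ⧸ PJ M.toCoxeterSystem h T X {j | j ≠ k0'}) ×
        (↥(D.group K) ⧸ PJ M.toCoxeterSystem h T X {j | j ≠ (⟨c.k, hc.hk⟩ : Fin c.l)}))) := by
    intro A h hA T n X R hgen
    subst hA
    refine le_orbits_rgd R hgen (Tab.toWDat hc.hk hc.hB hc.hA hc.hZ) (f := c.fv a) (fun z hz i hi => ?_)
      (fun i => Z.get i) (fun i => Tab.nat_blt.1 (hF2 _ (List.get_mem Z i))) ?_
    · rcases hF1 z hz i.val i.2 with e1 | e1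
      · exact absurd (Fin.ext (Tab.nat_beq.1 e1)) hi
      · exact Tab.nat_beq.1 e1
    · intro i j hij
      have e2 := List.nodup_iff_injective_get.1 hF3
      have e3 : (Z.map (c.fv a)).length = Z.length := List.length_map _
      have e4 := @e2 (Fin.cast e3.symm i) (Fin.cast e3.symm j) (by
        simp only [List.get_eq_getElem, Fin.val_cast, List.getElem_map]
        exact hij)
      exact Fin.ext (by simpa using congrArg Fin.val e4)
  exact e1 _ hp.isCartan hA _ _ _ R (gen hp M.toCoxeterSystem p)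

/-- a member from the degree polynomial -/
theorem qmem_mk {S : Type u} [Group S] [Finite S] {p : ℕ} [hpp : Fact p.Prime] (hp11 : 11 ≤ p) {N : Ideal AlgInt} {q : ℕ}
    {φ : List ℤ} (h0 : φ ≠ []) (hφ : (p : ℤ) ∣ (q : ℤ) ^ φ.length + evL (q : ℤ) φ) {χ : IrrCharacter S}
    (hb : χ ∈ principalBlock N S) (hz : ∀ g, ∃ z : ℤ, (χ : S → ℂ) g = z) {Q : IrrCharacter S → Prop} (hQ : Q χ)
    {l : List ℤ} (hdeg : 2 * (charDegree (χ : S → ℂ) : ℤ) = evL (q : ℤ) l)
    (hchk : (decide (((remL φ l).headD 0).natAbs ∣ 210 ^ 4) && ((remL φ l).tail.all fun d => decide (d = 0))) = true) :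
    QMem p N q S Q l := by
  rw [Bool.and_eq_true, decide_eq_true_eq] at hchk
  have hmod := deg_modEq h0 hφ l
  have e0 : evL (q : ℤ) (remL φ l) = (remL φ l).headD 0 := by
    have h11 := hchk.2
    generalize remL φ l = l' at h11 ⊢
    cases l' with
    | nil => simp [evL]
    | cons d l' =>
      rw [List.tail_cons] at h11
      rw [evL_cons, evL_of_all_zero _ l' h11, mul_zero, add_zero]
      rfl
  rw [e0, ← hdeg] at hmod
  refine ⟨χ, ⟨hb, fun hdv => ?_, Cfsg.Agent.H674.XZ.alm_of_rat fun g => ?_⟩, hz, hQ, hdeg⟩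
  · have e1 : (p : ℤ) ∣ (remL φ l).headD 0 :=
      (Int.ModEq.dvd_iff hmod).1 (Dvd.dvd.mul_left (by exact_mod_cast hdv) _)
    have e2 : p ∣ ((remL φ l).headD 0).natAbs := Int.natCast_dvd.1 e1
    have e3 := hpp.out.dvd_of_dvd_pow (e2.trans hchk.1)
    have e4 : p ∣ 2 * 3 * 5 * 7 := e3
    rw [hpp.out.dvd_mul, hpp.out.dvd_mul, hpp.out.dvd_mul] at e4
    rcases e4 with ((e4 | e4) | e4) | e4 <;> have := Nat.le_of_dvd (by norm_num) e4 <;> omega
  · obtain ⟨z, hz⟩ := hz g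
    exact ⟨z, by rw [hz]; push_cast; rfl⟩

/-- a divisibility from remainders -/
theorem dvd_of_remL {p q : ℕ} {φ : List ℤ} (h0 : φ ≠ []) (hφ : (p : ℤ) ∣ (q : ℤ) ^ φ.length + evL (q : ℤ) φ)
    {l m : List ℤ} (h : ((remL φ (addL l (smulL (-1) m))).all fun d => decide (d = 0)) = true) :
    (p : ℤ) ∣ evL (q : ℤ) l - evL (q : ℤ) m := by
  have h1 := deg_modEq h0 hφ (addL l (smulL (-1) m))
  rw [evL_of_all_zero _ _ h, evL_addL, evL_smulL] at h1
  have h2 := (Int.modEq_zero_iff_dvd).1 h1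
  push_cast at h2
  have h3 : evL (q : ℤ) l - evL (q : ℤ) m = evL (q : ℤ) l + -1 * evL (q : ℤ) m := by ring
  rw [h3]
  exact h2

theorem e71_chkF : e71Cert.chkF [2, 3, 4, 6, 5, 4, 3] 6 [0, 10, 64] = true := by decide +kernel

/-- the check of a degree -/
theorem e7_chk3 : ∀ l ∈ [e77Dg.getD 2 [], e77Dg.getD 0 [], e71Dg.getD 1 []],
    (decide (((remL (phL 3) l).headD 0).natAbs ∣ 210 ^ 4) &&
      ((remL (phL 3) l).tail.all fun d => decide (d = 0))) = true := by decide +kernel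

/-- **`E₇`, `d = 3`**: 1, 35, 7, 21, 56, from the number `cnt` of the parabolic subgroup of type `E₆`. -/
theorem qmem_E7_3 (K : Type u) [Field K] [Fintype K] {p : ℕ} [hpp : Fact p.Prime] (hp11 : 11 ≤ p) {N : Ideal AlgInt}
    (hN : IsPModular p N) (hd : orderOf ((Fintype.card K : ℕ) : ZMod p) = 3)
    (hcnt : ∀ P : Sylow p ↥((chevE7).group K), ((cnt (P : Subgroup ↥((chevE7).group K))
      (↥((chevE7).group K) ⧸ H687.BR.Pa hpE7 K {0, 1, 2, 3, 4, 5}) : ℕ) : ℤ) ≡ 2 [ZMOD p]) :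
    ∀ l ∈ [e71Dg.getD 4 [], e71Dg.getD 0 [], e77Dg.getD 2 [], e77Dg.getD 0 [], e71Dg.getD 1 []],
      QMem p N (Fintype.card K) ↥((chevE7).group K) (ParC hpE7 K) l := by
  classical
  have hft : Fintype ↥((chevE7).group K) := Fintype.ofFinite _
  have hq2 : 2 ≤ Fintype.card K := Fintype.one_lt_card
  have hMp := Blocks.Local.isPrime_of_isPModular hN
  have h0 := phL_ne 3
  have hφ := dvd_phL (p := p) (q := Fintype.card K) (d := 3) hd (by decide)
  obtain ⟨χ', h1', h2', h3', h4', h5', h6', h7'⟩ : ∃ χ : Fin 4 → IrrCharacter ↥((chevE7).group K), Function.Injective χ ∧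
      (∀ i g, ∃ z : ℤ, (χ i : ↥((chevE7).group K) → ℂ) g = z) ∧
      (∀ i, classInner (H116.HeckeD.perm ↥((chevE7).group K) (↥((chevE7).group K) ⧸
        PJ CoxeterMatrix.E₇.toCoxeterSystem hpE7.isCartan (TT chevE7 K) (XX chevE7 7 K) {j | j ≠ (6 : Fin 7)}))
        (χ i : ↥((chevE7).group K) → ℂ) = 1) ∧
      (∀ ψ : IrrCharacter ↥((chevE7).group K), classInner (H116.HeckeD.perm ↥((chevE7).group K) (↥((chevE7).group K) ⧸
        PJ CoxeterMatrix.E₇.toCoxeterSystem hpE7.isCartan (TT chevE7 K) (XX chevE7 7 K) {j | j ≠ (6 : Fin 7)}))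
        (ψ : ↥((chevE7).group K) → ℂ) ≠ 0 → ∃ i, χ i = ψ) ∧
      (∀ i : Fin 4, 2 * (charDegree (χ i : ↥((chevE7).group K) → ℂ) : ℤ) =
        evL (Fintype.card K : ℤ) (e77Dg.getD i.val [])) ∧
      (∀ i : Fin 4, i.val = 4 - 1 → χ i = tr1 ↥((chevE7).group K)) ∧
      ∀ (p : ℕ) (M : Ideal AlgInt), IsPModular p M → ∀ i j : Fin 4,
        (∀ a < 4, (p : ℤ) ∣ evL (Fintype.card K : ℤ) (e77Cert.P i a) - evL (Fintype.card K : ℤ) (e77Cert.P j a)) →
        SameBlock M (χ i : ↥((chevE7).group K) → ℂ) (χ j : ↥((chevE7).group K) → ℂ) :=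
    Cert.exists_chev e77_ok e77_chkD (l := 7) rfl hpE7 e77_cartan K (k0 := 6) rfl
  obtain ⟨χ, h1, h2, h3, h4, h5, h6, h7⟩ : ∃ χ : Fin 5 → IrrCharacter ↥((chevE7).group K), Function.Injective χ ∧
      (∀ i g, ∃ z : ℤ, (χ i : ↥((chevE7).group K) → ℂ) g = z) ∧
      (∀ i, classInner (H116.HeckeD.perm ↥((chevE7).group K) (↥((chevE7).group K) ⧸
        PJ CoxeterMatrix.E₇.toCoxeterSystem hpE7.isCartan (TT chevE7 K) (XX chevE7 7 K) {j | j ≠ (0 : Fin 7)}))
        (χ i : ↥((chevE7).group K) → ℂ) = 1) ∧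
      (∀ ψ : IrrCharacter ↥((chevE7).group K), classInner (H116.HeckeD.perm ↥((chevE7).group K) (↥((chevE7).group K) ⧸
        PJ CoxeterMatrix.E₇.toCoxeterSystem hpE7.isCartan (TT chevE7 K) (XX chevE7 7 K) {j | j ≠ (0 : Fin 7)}))
        (ψ : ↥((chevE7).group K) → ℂ) ≠ 0 → ∃ i, χ i = ψ) ∧
      (∀ i : Fin 5, 2 * (charDegree (χ i : ↥((chevE7).group K) → ℂ) : ℤ) =
        evL (Fintype.card K : ℤ) (e71Dg.getD i.val [])) ∧
      (∀ i : Fin 5, i.val = 5 - 1 → χ i = tr1 ↥((chevE7).group K)) ∧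
      ∀ (p : ℕ) (M : Ideal AlgInt), IsPModular p M → ∀ i j : Fin 5,
        (∀ a < 5, (p : ℤ) ∣ evL (Fintype.card K : ℤ) (e71Cert.P i a) - evL (Fintype.card K : ℤ) (e71Cert.P j a)) →
        SameBlock M (χ i : ↥((chevE7).group K) → ℂ) (χ j : ↥((chevE7).group K) → ℂ) :=
    Cert.exists_chev e71_ok e71_chkD (l := 7) rfl hpE7 e71_cartan K (k0 := 0) rfl
  -- the principal block contains 7 and 21
  have hset : H687.BR.Pa hpE7 K {0, 1, 2, 3, 4, 5} =
      PJ CoxeterMatrix.E₇.toCoxeterSystem hpE7.isCartan (TT chevE7 K) (XX chevE7 7 K) {j | j ≠ (6 : Fin 7)} := by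
    unfold H687.BR.Pa
    congr 1
    ext j
    revert j
    decide
  rw [hset] at hcnt
  let P : Sylow p ↥((chevE7).group K) := default
  have hsum := sum_block_modEq hN P (↥((chevE7).group K) ⧸
    PJ CoxeterMatrix.E₇.toCoxeterSystem hpE7.isCartan (TT chevE7 K) (XX chevE7 7 K) {j | j ≠ (6 : Fin 7)}) h1' h3' h4'
  have hlink : SameBlock N (χ' 2 : ↥((chevE7).group K) → ℂ) (χ' 0 : ↥((chevE7).group K) → ℂ) := by
    refine h7' p N hN 2 0 fun a ha => dvd_of_remL h0 hφ ?_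
    have e1 : ∀ a < 4, ((remL (phL 3) (addL (e77Cert.P 2 a) (smulL (-1) (e77Cert.P 0 a)))).all
      fun d => decide (d = 0)) = true := by decide +kernel
    exact e1 a ha
  have htr : χ' 3 = tr1 ↥((chevE7).group K) := h6' 3 rfl
  have h27 : p ∣ charDegree (χ' 1 : ↥((chevE7).group K) → ℂ) := by
    have e1 : 2 * (charDegree (χ' 1 : ↥((chevE7).group K) → ℂ) : ℤ) = evL (Fintype.card K : ℤ) (e77Dg.getD 1 []) := h5' 1
    have e2 := dvd_of_remL (l := e77Dg.getD 1 []) (m := []) h0 hφ (by decide +kernel)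
    rw [evL_nil, sub_zero, ← e1] at e2
    have e3 : p ∣ 2 * charDegree (χ' 1 : ↥((chevE7).group K) → ℂ) := by exact_mod_cast e2
    rcases hpp.out.dvd_mul.1 e3 with e4 | e4
    · have := Nat.le_of_dvd (by norm_num) e4
      omega
    · exact e4
  have hd1 : charDegree (χ' 3 : ↥((chevE7).group K) → ℂ) = 1 := by
    rw [htr]
    have e1 := (S0914.degree_spec (tr1 ↥((chevE7).group K))).1
    have e2 : ((charDegree (tr1 ↥((chevE7).group K) : ↥((chevE7).group K) → ℂ) : ℕ) : ℂ) = 1 := e1.symm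
    exact_mod_cast e2
  have hb2 : χ' 2 ∈ principalBlock N ↥((chevE7).group K) := by
    by_contra hn2
    have hn0 : ¬ χ' 0 ∈ principalBlock N ↥((chevE7).group K) := by
      intro h
      apply hn2
      rw [Blocks.PrincipalSection.mem_principalBlock_iff] at h ⊢
      exact Blocks.Basic.sameBlock_trans h (Blocks.Basic.sameBlock_symm hlink)
    have hb3 : χ' 3 ∈ principalBlock N ↥((chevE7).group K) := by
      rw [htr]
      exact Blocks.PrincipalSection.one_mem_principalBlock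
    have e1 : ∑ i with χ' i ∈ principalBlock N ↥((chevE7).group K), charDegree (χ' i : ↥((chevE7).group K) → ℂ) ≡ 1
        [MOD p] := by
      rw [Finset.sum_filter, Fin.sum_univ_four, if_neg hn0, if_neg hn2, if_pos hb3, hd1]
      split_ifs
      · rw [zero_add, add_zero]
        have e3 := (Nat.modEq_zero_iff_dvd.2 h27).add_right 1
        rwa [zero_add] at e3
      · rfl
    have e2 := (e1.symm.trans hsum)
    have e3 := hcnt P
    rw [← Int.natCast_modEq_iff] at e2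
    have e4 := e2.trans e3
    have e5 := (Int.modEq_iff_dvd.1 e4)
    norm_num at e5
    have e6 : p ∣ 1 := by exact_mod_cast e5
    have := Nat.le_of_dvd (by norm_num) e6
    omega
  have hb0 : χ' 0 ∈ principalBlock N ↥((chevE7).group K) := by
    rw [Blocks.PrincipalSection.mem_principalBlock_iff] at hb2 ⊢
    exact Blocks.Basic.sameBlock_trans hb2 hlink
  -- constituents of the permutation characters
  have hpar' : ∀ i, ParC hpE7 K (χ' i) := by
    intro i
    refine ⟨{j | j ≠ (6 : Fin 7)}, ?_⟩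
    intro hft'
    have e1 : hft' = hft := Subsingleton.elim _ _
    subst e1
    intro e3
    have e2 := h3' i
    have e4 : classInner (H116.HeckeD.perm ↥((chevE7).group K) (↥((chevE7).group K) ⧸
        PJ CoxeterMatrix.E₇.toCoxeterSystem hpE7.isCartan (TT chevE7 K) (XX chevE7 7 K) {j | j ≠ (6 : Fin 7)}))
        (χ' i : ↥((chevE7).group K) → ℂ) = 0 := e3
    rw [e2] at e4
    exact one_ne_zero e4
  have hpar : ∀ i, ParC hpE7 K (χ i) := by
    intro i
    refine ⟨{j | j ≠ (0 : Fin 7)}, ?_⟩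
    intro hft'
    have e1 : hft' = hft := Subsingleton.elim _ _
    subst e1
    intro e3
    have e2 := h3 i
    have e4 : classInner (H116.HeckeD.perm ↥((chevE7).group K) (↥((chevE7).group K) ⧸
        PJ CoxeterMatrix.E₇.toCoxeterSystem hpE7.isCartan (TT chevE7 K) (XX chevE7 7 K) {j | j ≠ (0 : Fin 7)}))
        (χ i : ↥((chevE7).group K) → ℂ) = 0 := e3
    rw [e2] at e4
    exact one_ne_zero e4
  -- the character 7 of the second parabolic subgroup
  have horb := Cert.le_orbits_chev e71_ok (l := 7) rfl hpE7 e71_cartan K (k0 := 0) (k0' := 6) rfl e71_chkF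
  have hne7 : chkNe (e77Dg.getD 0 [] :: e71Dg) = true := by decide +kernel
  have hcom : ∃ j, χ j = χ' 2 := by
    refine exists_eq_of_card_le _ _ h3 h4 h1' h3' h4' ({1, 2, 3} : Finset (Fin 4)) (fun i hi j hij => ?_) horb 2
      (by decide)
    have hi0 : i = (0 : Fin 4) := by
      clear hij
      revert hi
      revert i
      decide
    subst hi0
    have e1 := h5 j
    rw [hij] at e1
    have e2 : 2 * (charDegree (χ' (0 : Fin 4) : ↥((chevE7).group K) → ℂ) : ℤ) =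
      evL (Fintype.card K : ℤ) (e77Dg.getD 0 []) := h5' 0
    rw [e2] at e1
    have e3 : e71Dg.getD j.val [] = (e77Dg.getD 0 [] :: e71Dg).get (Fin.succ j) := by
      rw [List.getD_eq_getElem _ _ (show j.val < e71Dg.length from j.2)]
      rfl
    rw [e3] at e1
    have e4 := eq_of_chkNe hq2 hne7 (i := (0 : Fin (5 + 1))) (j := Fin.succ j) e1
    exact absurd e4 (Fin.succ_ne_zero j).symm
  obtain ⟨j, hj⟩ := hcom
  have hj3 : j = (3 : Fin 5) := by
    have e1 := h5 j
    rw [hj] at e1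
    have e2 : 2 * (charDegree (χ' (2 : Fin 4) : ↥((chevE7).group K) → ℂ) : ℤ) =
      evL (Fintype.card K : ℤ) (e77Dg.getD 2 []) := h5' 2
    have e5 : e77Dg.getD 2 [] = e71Dg.get (3 : Fin 5) := by decide +kernel
    rw [e2, e5] at e1
    have e3 : e71Dg.getD j.val [] = e71Dg.get j := by
      rw [List.getD_eq_getElem _ _ (show j.val < e71Dg.length from j.2)]
      rfl
    rw [e3] at e1
    have e6 : chkNe e71Dg = true := by decide +kernel
    exact (eq_of_chkNe (DL := e71Dg) hq2 e6 (i := (3 : Fin 5)) (j := j) e1).symm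
  subst hj3
  have hb56 : χ 1 ∈ principalBlock N ↥((chevE7).group K) := by
    have hl : SameBlock N (χ 3 : ↥((chevE7).group K) → ℂ) (χ 1 : ↥((chevE7).group K) → ℂ) := by
      refine h7 p N hN 3 1 fun a ha => dvd_of_remL h0 hφ ?_
      have e1 : ∀ a < 5, ((remL (phL 3) (addL (e71Cert.P 3 a) (smulL (-1) (e71Cert.P 1 a)))).all
        fun d => decide (d = 0)) = true := by decide +kernel
      exact e1 a ha
    have hb7 : χ 3 ∈ principalBlock N ↥((chevE7).group K) := by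
      have e1 : χ 3 = χ' 2 := hj
      rw [e1]
      exact hb2
    rw [Blocks.PrincipalSection.mem_principalBlock_iff] at hb7 ⊢
    exact Blocks.Basic.sameBlock_trans hb7 hl
  have e1 := qmem_E7 K hp11 hN hd
  intro l hl
  simp only [List.mem_cons, List.not_mem_nil, or_false] at hl
  rcases hl with rfl | rfl | rfl | rfl | rfl
  · exact e1 _ (by decide +kernel)
  · exact e1 _ (by decide +kernel)
  · exact qmem_mk hp11 h0 hφ hb2 (h2' 2) (hpar' 2) (h5' 2) (e7_chk3 _ (by simp))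
  · exact qmem_mk hp11 h0 hφ hb0 (h2' 0) (hpar' 0) (h5' 0) (e7_chk3 _ (by simp))
  · exact qmem_mk hp11 h0 hφ hb56 (h2 1) (hpar 1) (h5 1) (e7_chk3 _ (by simp))

/-- the family of five -/
theorem mem_E7_3_five (K : Type u) [Field K] [Fintype K] {p : ℕ} [hpp : Fact p.Prime] (hp11 : 11 ≤ p) {N : Ideal AlgInt}
    (hN : IsPModular p N) (hd : orderOf ((Fintype.card K : ℕ) : ZMod p) = 3)
    (hcnt : ∀ P : Sylow p ↥((chevE7).group K), ((cnt (P : Subgroup ↥((chevE7).group K))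
      (↥((chevE7).group K) ⧸ H687.BR.Pa hpE7 K {0, 1, 2, 3, 4, 5}) : ℕ) : ℤ) ≡ 2 [ZMOD p]) :
    ∃ χ : Fin 5 → IrrCharacter ↥((chevE7).group K), Function.Injective χ ∧ ∀ i, Mem0 p N (χ i) ∧
      ∀ g, ∃ z : ℤ, (χ i : ↥((chevE7).group K) → ℂ) g = z :=
  exists_of_QMem' Fintype.one_lt_card _ (qmem_E7_3 K hp11 hN hd hcnt) (by decide +kernel) rfl

end Cfsg.Agent.H77.RK
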