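import Cfsg.Agent.H77.RK.Deg

/-!
# Common constituents of two permutation characters (helper77)

* `classInner_perm_perm` : the inner product is the number of orbits on the product;
* `exists_eq_of_le_orbits` : multiplicity free permutation characters of `X`, `X'`, at least as many orbits on `X' × X` as
  constituents of `X'`: all constituents of `X'` are constituents of `X`;
* `le_orbits_rgd` : the number of orbits on `G/P' × G/P` for two maximal parabolic subgroups, from an invariant of the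
  orbit of the fundamental weight.
-/

set_option autoImplicit false
set_option linter.unusedSectionVars false

namespace Cfsg.Agent.H77.RK

open Cfsg Cfsg.Agent.Characters.Core
open Cfsg.Agent.H116.HeckeD (perm isCharacter_perm)
open scoped ComplexConjugate

universe u

section

variable {Y : Type*} [Group Y] [Fintype Y]

theorem classInner_perm_perm (X X' : Type*) [MulAction Y X] [MulAction Y X'] [Finite X] [Finite X'] :
    classInner (perm Y X') (perm Y X) = (Nat.card (MulAction.orbitRel.Quotient Y (X' × X)) : ℂ) := by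
  classical
  have : Fintype X := Fintype.ofFinite _
  have : Fintype X' := Fintype.ofFinite _
  have h1 : ∀ g : Y, perm Y X' g * conj (perm Y X g) = ((Fintype.card (MulAction.fixedBy (X' × X) g) : ℕ) : ℂ) := by
    intro g
    have e1 : perm Y X' g = ((Nat.card (MulAction.fixedBy X' g) : ℕ) : ℂ) := rfl
    have e2 : perm Y X g = ((Nat.card (MulAction.fixedBy X g) : ℕ) : ℂ) := rfl
    rw [e1, e2, map_natCast, ← Nat.cast_mul, ← Nat.card_prod, ← Nat.card_eq_fintype_card]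
    congr 1
    refine Nat.card_congr ⟨fun x => ⟨(x.1.1, x.2.1), ?_⟩, fun x => (⟨x.1.1, ?_⟩, ⟨x.1.2, ?_⟩), fun x => rfl, fun x => rfl⟩
    · rw [MulAction.mem_fixedBy, Prod.smul_mk, x.1.2, x.2.2]
    · have := x.2
      rw [MulAction.mem_fixedBy] at this ⊢
      exact congrArg Prod.fst this
    · have := x.2
      rw [MulAction.mem_fixedBy] at this ⊢
      exact congrArg Prod.snd this
  rw [classInner_def, Finset.sum_congr rfl fun g _ => h1 g, ← Nat.cast_sum,
    MulAction.sum_card_fixedBy_eq_card_orbits_mul_card_group, Nat.cast_mul, ← Nat.card_eq_fintype_card,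
    ← Nat.card_eq_fintype_card]
  have h2 : (Nat.card Y : ℂ) ≠ 0 := by exact_mod_cast Nat.card_pos.ne'
  field_simp

/-- **Common constituents.** -/
theorem exists_eq_of_le_orbits (X X' : Type*) [MulAction Y X] [MulAction Y X'] [Finite X] [Finite X'] {r r' : ℕ}
    {χ : Fin r → IrrCharacter Y} (h1 : ∀ i, classInner (perm Y X) (χ i : Y → ℂ) = 1)
    (h2 : ∀ ψ : IrrCharacter Y, classInner (perm Y X) (ψ : Y → ℂ) ≠ 0 → ∃ i, χ i = ψ)
    {χ' : Fin r' → IrrCharacter Y} (h0' : Function.Injective χ') (h1' : ∀ i, classInner (perm Y X') (χ' i : Y → ℂ) = 1)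
    (h2' : ∀ ψ : IrrCharacter Y, classInner (perm Y X') (ψ : Y → ℂ) ≠ 0 → ∃ i, χ' i = ψ)
    (hr : r' ≤ Nat.card (MulAction.orbitRel.Quotient Y (X' × X))) (i : Fin r') : ∃ j, χ j = χ' i := by
  classical
  have hfin : Finite (IrrCharacter Y) := finite_irr
  let : Fintype (IrrCharacter Y) := Fintype.ofFinite _
  have : Fintype X := Fintype.ofFinite _
  have : Fintype X' := Fintype.ofFinite _
  obtain ⟨b, hb⟩ := exists_nat_comb (isCharacter_perm (G := Y) X')
  have hb1 : ∀ ψ : IrrCharacter Y, classInner (perm Y X') (ψ : Y → ℂ) = b ψ := by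
    intro ψ
    rw [hb, classInner_sum_nsmul_irr]
  have ha : ∀ ψ : IrrCharacter Y, ∃ a : ℕ, a ≤ 1 ∧ classInner (perm Y X) (ψ : Y → ℂ) = a := by
    intro ψ
    by_cases h : classInner (perm Y X) (ψ : Y → ℂ) = 0
    · exact ⟨0, by norm_num, by rw [h, Nat.cast_zero]⟩
    · obtain ⟨j, rfl⟩ := h2 ψ h
      exact ⟨1, le_rfl, by rw [h1, Nat.cast_one]⟩
  choose a ha1 ha using ha
  have h3 : (Nat.card (MulAction.orbitRel.Quotient Y (X × X')) : ℂ) = ∑ ψ : IrrCharacter Y, (b ψ : ℂ) * a ψ := by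
    rw [← classInner_perm_perm, hb, classInner_sum_right]
    refine Finset.sum_congr rfl fun ψ _ => ?_
    rw [← Nat.cast_smul_eq_nsmul ℂ, classInner_smul_right, map_natCast, ha]
  have h4 : Nat.card (MulAction.orbitRel.Quotient Y (X × X')) = Nat.card (MulAction.orbitRel.Quotient Y (X' × X)) := by
    have e1 := classInner_perm_perm (Y := Y) X X'
    have e2 := classInner_perm_perm (Y := Y) X' X
    rw [← classInner_conj_symm, e2, map_natCast] at e1
    exact_mod_cast e1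
  have h5 : ∑ ψ : IrrCharacter Y, b ψ * a ψ = ∑ i : Fin r', a (χ' i) := by
    have e1 : ∑ ψ ∈ Finset.univ.image χ', b ψ * a ψ = ∑ i : Fin r', a (χ' i) := by
      rw [Finset.sum_image fun x _ y _ h => h0' h]
      refine Finset.sum_congr rfl fun i _ => ?_
      have e2 : b (χ' i) = 1 := by
        have e3 := hb1 (χ' i)
        rw [h1'] at e3
        exact_mod_cast e3.symm
      rw [e2, one_mul]
    rw [← e1]
    symm
    refine Finset.sum_subset (Finset.subset_univ _) fun ψ _ hψ => ?_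
    have e2 : b ψ = 0 := by
      by_contra hne
      obtain ⟨i, hi⟩ := h2' ψ (by rw [hb1]; exact_mod_cast hne)
      exact hψ (Finset.mem_image.2 ⟨i, Finset.mem_univ _, hi⟩)
    rw [e2, zero_mul]
  have h6 : r' ≤ ∑ i : Fin r', a (χ' i) := by
    rw [← h5]
    have e1 : ((Nat.card (MulAction.orbitRel.Quotient Y (X × X')) : ℕ) : ℂ) = ((∑ ψ : IrrCharacter Y, b ψ * a ψ : ℕ) : ℂ) := by
      rw [h3]
      push_cast
      rfl
    have e2 := Nat.cast_injective (R := ℂ) e1
    rw [← e2, h4]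
    exact hr
  have h7 : a (χ' i) ≠ 0 := by
    intro h0
    have e1 : ∑ i : Fin r', a (χ' i) < ∑ i : Fin r', 1 :=
      Finset.sum_lt_sum (fun i _ => ha1 _) ⟨i, Finset.mem_univ _, by rw [h0]; norm_num⟩
    rw [Finset.sum_const, Finset.card_univ, Fintype.card_fin, smul_eq_mul, mul_one] at e1
    omega
  exact h2 (χ' i) (by rw [ha]; exact_mod_cast h7)

end

section Rgd

open CoxeterSystem Cfsg.Agent.ChevalleyStructure.CoxeterGeom Cfsg.Agent.Tits.Roots Cfsg.Agent.Tits.Core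
  Cfsg.Agent.Tits.Exchange Cfsg.Agent.Nodes.Reps Cfsg.Agent.Nodes.BNOf Cfsg.Agent.Nodes.StabComb
  Cfsg.Agent.Nodes.Bruhat Cfsg.Agent.Nodes.LeviDec Cfsg.Agent.Nodes.NormalForm Cfsg.Agent.H116

variable {I W : Type*} {Y : Type u} [Fintype I] [DecidableEq I] [Group W] [Group Y] {M : CoxeterMatrix I}
  {cs : CoxeterSystem M W} {A : I → I → ℤ} {h : IsCartan M A} {p : ℕ} {T : Subgroup Y} {n : I → Y}
  {X : (I → ℤ) → Subgroup Y}

theorem WDat.f_mul {m r : ℕ} {k : I} (D : WDat A k m r) {k' : I} {f : ℕ → ℕ}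
    (hf : ∀ z < m, ∀ i, i ≠ k' → f (D.nb z i) = f z) {u : W} (hu : u ∈ WJ cs {j | j ≠ k'}) (w : W) :
    f (D.idx cs h (u * w)) = f (D.idx cs h w) := by
  induction hu using Subgroup.closure_induction generalizing w with
  | mem u hu =>
    obtain ⟨i, hi, rfl⟩ := hu
    rw [D.idx_simple_mul, hf _ (D.idx_lt cs h w) i hi]
  | one => rw [one_mul]
  | mul u v _ _ hu hv => rw [mul_assoc, hu, hv]
  | inv u _ hu =>
    have h1 := hu (u⁻¹ * w)
    rw [mul_inv_cancel_left] at h1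
    exact h1.symm

/-- **The number of orbits.** -/
theorem le_orbits_rgd [Finite W] [Finite Y] (R : RGD cs h p T n X)
    (hgen : RGD.B cs h T X ⊔ NN cs R.nsys = ⊤) {k : I} {m r : ℕ} (D : WDat A k m r) {k' : I} {f : ℕ → ℕ}
    (hf : ∀ z < m, ∀ i, i ≠ k' → f (D.nb z i) = f z) {N : ℕ} (z : Fin N → ℕ) (hz : ∀ i, z i < m)
    (hinj : Function.Injective fun i => f (z i)) :
    N ≤ Nat.card (MulAction.orbitRel.Quotient Y ((Y ⧸ PJ cs h T X {j | j ≠ k'}) × (Y ⧸ PJ cs h T X {j | j ≠ k}))) := by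
  classical
  obtain ⟨B, hB⟩ : ∃ B, B = RGD.B cs h T X := ⟨_, rfl⟩
  have hex0 : ∃ Δ : Bldg cs (Y ⧸ RGD.B cs h T X),
      (∀ (g : Y) (x y : Y ⧸ RGD.B cs h T X), Δ.δ (g • x) (g • y) = Δ.δ x y) ∧
      (∀ (a b k : Y) (w : W), Rp cs R.nsys w k → (Δ.δ (QuotientGroup.mk a) (QuotientGroup.mk b) = w ↔
        ∃ b₁ ∈ RGD.B cs h T X, ∃ b₂ ∈ RGD.B cs h T X, a⁻¹ * b = b₁ * k * b₂)) := by
    obtain ⟨Δ, hiso, htr, hδ⟩ := H167.SteinbergRGD.exists_bldg R hgen
    exact ⟨Δ, hiso, hδ⟩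
  rw [← hB] at hex0
  obtain ⟨Δ, hiso, hδ⟩ := hex0
  have hTB : T ≤ B := by rw [hB]; exact fun t ht => RGD.T_le_B ht
  have hcell : ∀ (a b : Y) (w : W), Δ.δ (QuotientGroup.mk a) (QuotientGroup.mk b) = w ↔
      ∃ b₁ ∈ B, ∃ k', Rp cs R.nsys w k' ∧ ∃ b₂ ∈ B, a⁻¹ * b = b₁ * k' * b₂ := by
    intro a b w
    obtain ⟨kw, hkw⟩ := exists_rp cs R.nsys w
    rw [hδ a b kw w hkw]
    constructor
    · rintro ⟨b₁, h1, b₂, h2, e⟩
      exact ⟨b₁, h1, kw, hkw, b₂, h2, e⟩
    · rintro ⟨b₁, h1, k', hk', b₂, h2, e⟩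
      refine ⟨b₁, h1, (kw⁻¹ * k') * b₂, mul_mem (hTB (hkw.unique hk')) h2, ?_⟩
      rw [e]
      group
  have hfib : ∀ (k : I) (a b : Y), (QuotientGroup.mk a : Y ⧸ PJ cs h T X {j | j ≠ k}) = QuotientGroup.mk b →
      Δ.δ (QuotientGroup.mk a) (QuotientGroup.mk b) ∈ WJ cs {j | j ≠ k} := by
    intro k a b hab
    rw [QuotientGroup.eq, mem_PJ_iff_cell R] at hab
    obtain ⟨w, hw, hc⟩ := hab
    rw [(hcell a b w).2 (by rw [hB]; exact hc)]
    exact hw
  -- the invariant
  let F : Y → Y → ℕ := fun a b => f (D.idx cs h (Δ.δ (QuotientGroup.mk a) (QuotientGroup.mk b)))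
  have hF : ∀ a a' b b' : Y, (QuotientGroup.mk a : Y ⧸ PJ cs h T X {j | j ≠ k'}) = QuotientGroup.mk a' →
      (QuotientGroup.mk b : Y ⧸ PJ cs h T X {j | j ≠ k}) = QuotientGroup.mk b' → F a b = F a' b' := by
    intro a a' b b' ha hb
    obtain ⟨u, hu, hu'⟩ := exists_mul_of_mem Δ (hfib k' a a' ha) (QuotientGroup.mk b)
    obtain ⟨v, hv, hv'⟩ := exists_mul_of_mem Δ (hfib k b b' hb) (QuotientGroup.mk a')
    have e1 : Δ.δ (QuotientGroup.mk a') (QuotientGroup.mk b) = Δ.δ (QuotientGroup.mk a') (QuotientGroup.mk b') * v⁻¹ := by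
      rw [Δ.symm (QuotientGroup.mk b), hv', Δ.symm (QuotientGroup.mk a') (QuotientGroup.mk b'), mul_inv_rev,
        inv_inv]
    show f (D.idx cs h (Δ.δ (QuotientGroup.mk a) (QuotientGroup.mk b))) =
      f (D.idx cs h (Δ.δ (QuotientGroup.mk a') (QuotientGroup.mk b')))
    rw [hu', D.f_mul hf hu, e1, D.idx_mul cs h (inv_mem hv)]
  have hFg : ∀ g a b : Y, F (g * a) (g * b) = F a b := by
    intro g a b
    exact congrArg (fun w => f (D.idx cs h w)) (hiso g (QuotientGroup.mk a) (QuotientGroup.mk b))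
  let F' : (Y ⧸ PJ cs h T X {j | j ≠ k'}) × (Y ⧸ PJ cs h T X {j | j ≠ k}) → ℕ := fun x => F x.1.out x.2.out
  have hF' : ∀ a b : Y, F' (QuotientGroup.mk a, QuotientGroup.mk b) = F a b := fun a b =>
    hF _ _ _ _ (QuotientGroup.out_eq' _) (QuotientGroup.out_eq' _)
  have hF'g : ∀ (g : Y) x, F' (g • x) = F' x := by
    rintro g ⟨x, y⟩
    induction x using QuotientGroup.induction_on with
    | _ a =>
    induction y using QuotientGroup.induction_on with
    | _ b =>
    rw [hF', ← hFg g]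
    exact hF' (g * a) (g * b)
  let Q : MulAction.orbitRel.Quotient Y ((Y ⧸ PJ cs h T X {j | j ≠ k'}) × (Y ⧸ PJ cs h T X {j | j ≠ k})) → ℕ :=
    Quotient.lift F' fun x y hxy => by
      obtain ⟨g, rfl⟩ := hxy
      exact hF'g g y
  have hex : ∀ i : Fin N, ∃ b : Y, F 1 b = f (z i) := by
    intro i
    obtain ⟨w, hw⟩ := D.exists_idx_eq cs h (hz i)
    obtain ⟨b, hb⟩ := exists_rp cs R.nsys w
    refine ⟨b, ?_⟩
    have e1 : Δ.δ (QuotientGroup.mk 1) (QuotientGroup.mk b) = w := by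
      rw [hcell, inv_one, one_mul]
      exact ⟨1, one_mem _, b, hb, 1, one_mem _, by rw [one_mul, mul_one]⟩
    show f (D.idx cs h (Δ.δ (QuotientGroup.mk 1) (QuotientGroup.mk b))) = f (z i)
    rw [e1, hw]
  choose b hb using hex
  have h1 := Nat.card_le_card_of_injective (α := Fin N)
    (fun i => (Quotient.mk'' (QuotientGroup.mk 1, QuotientGroup.mk (b i)) :
      MulAction.orbitRel.Quotient Y ((Y ⧸ PJ cs h T X {j | j ≠ k'}) × (Y ⧸ PJ cs h T X {j | j ≠ k})))) (by
      intro i j hij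
      apply hinj
      have e1 := congrArg Q hij
      have e2 : ∀ i, Q (Quotient.mk'' (QuotientGroup.mk 1, QuotientGroup.mk (b i))) = f (z i) := fun i =>
        (hF' 1 (b i)).trans (hb i)
      rw [e2, e2] at e1
      exact e1)
  rwa [Nat.card_eq_fintype_card, Fintype.card_fin] at h1

end Rgd

end Cfsg.Agent.H77.RK
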