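import Cfsg.Agent.H116.HeckeD
import Mathlib.LinearAlgebra.Lagrange

/-!
# Rational constituents of a permutation character of low rank (helper77)

* `rat_of_eigen` : `A` an invariant rational matrix on the finite `G`-set `X` with at least as many different rational
  eigenvalues as there are orbits on `X × X`: all irreducible constituents of the permutation character of `X` are
  rational valued;
* `rat_of_eigen_fib` : the same for a matrix on a `G`-set `C` which covers `X`.
-/

set_option autoImplicit false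
set_option linter.unusedSectionVars false

namespace Cfsg.Agent.H77.RK

open Cfsg Cfsg.Agent.H116.HeckeC Cfsg.Agent.H116.HeckeD Cfsg.Agent.Characters.Core Matrix Polynomial Module
open scoped ComplexConjugate

section

variable {G : Type*} [Group G] [Fintype G] {X : Type*} [Fintype X] [DecidableEq X] [MulAction G X]

theorem Ph_mul_self {χ : G → ℂ} (hχ : IsIrrCharacter G χ) : ∃ c : ℂ, Ph X χ * Ph X χ = c • Ph X χ := by
  refine ⟨(∑ g, χ g * conj (χ g)) / χ 1, ?_⟩
  have hcl := isIrr_isClassFunction hχ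
  rw [Ph_apply, Finset.sum_mul]
  have h1 : ∀ g : G, χ g • Pm X g⁻¹ * ∑ h : G, χ h • Pm X h⁻¹ = ∑ y : G, (χ g * χ (y * g⁻¹)) • Pm X y⁻¹ := by
    intro g
    rw [Finset.mul_sum]
    refine Fintype.sum_equiv (Equiv.mulRight g) _ _ fun h => ?_
    show χ g • Pm X g⁻¹ * χ h • Pm X h⁻¹ = (χ g * χ (h * g * g⁻¹)) • Pm X (h * g)⁻¹
    rw [smul_mul_smul_comm, ← Pm_mul, _root_.mul_inv_rev, mul_assoc h g, mul_inv_cancel, mul_one]
  rw [Finset.sum_congr rfl fun g _ => h1 g, Finset.sum_comm, Finset.smul_sum]
  refine Finset.sum_congr rfl fun y _ => ?_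
  rw [← Finset.sum_smul, smul_smul, ← Classification.TypeZIV.Parity.sum_conv hcl hχ y]
  congr 1
  refine Fintype.sum_equiv (Equiv.inv G) _ _ fun g => ?_
  rw [Equiv.inv_apply, ← isCharacter_apply_inv (isIrr_isCharacter hχ), inv_inv, mul_comm]

/-- a matrix which commutes with the permutations is determined by the values on representatives of the orbits -/
theorem eq_zero_of_reps {ι : Type*} (s : ι → X × X)
    (hs : ∀ x y : X, ∃ i, ∃ g : G, g • (s i).1 = x ∧ g • (s i).2 = y) {B : Matrix X X ℂ}
    (hB : ∀ (g : G) (x y : X), B (g • x) (g • y) = B x y) (h : ∀ i, B (s i).1 (s i).2 = 0) : B = 0 := by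
  ext x y
  obtain ⟨i, g, rfl, rfl⟩ := hs x y
  rw [hB, h]
  rfl

theorem rat_of_eigen {ι : Type*} [Fintype ι] (s : ι → X × X)
    (hs : ∀ x y : X, ∃ i, ∃ g : G, g • (s i).1 = x ∧ g • (s i).2 = y) (A : Matrix X X ℚ)
    (hA : ∀ (g : G) (x y : X), A (g • x) (g • y) = A x y) (θ : ι → ℚ) (hθ : Function.Injective θ)
    (v : ι → X → ℂ) (hv : ∀ i, v i ≠ 0) (he : ∀ i x, ∑ y, (A x y : ℂ) * v i y = (θ i : ℂ) * v i x)
    (χ : IrrCharacter G) (hχ : classInner (perm G X) (χ : G → ℂ) ≠ 0) (g : G) : ∃ r : ℚ, (χ : G → ℂ) g = (r : ℂ) := by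
  classical
  set φ : ℚ →+* ℂ := algebraMap ℚ ℂ with hφ
  set A' : Matrix X X ℂ := A.map φ with hA'
  -- polynomials in `A'` commute with the permutations
  have hcomm : ∀ (p : ℂ[X]) (g : G), Pm X g * aeval A' p = aeval A' p * Pm X g := by
    intro p g
    have h1 : Commute (Pm X g) A' := by
      refine (Pm_comm_iff g A').2 fun x y => ?_
      rw [hA', map_apply, map_apply, hA]
    induction p using Polynomial.induction_on' with
    | add p q hp hq => rw [map_add, mul_add, add_mul, hp, hq]
    | monomial n a =>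
      rw [aeval_monomial]
      have h2 : Commute (Pm X g) (algebraMap ℂ (Matrix X X ℂ) a) := (Algebra.commutes a (Pm X g)).symm
      exact h2.mul_right (h1.pow_right n)
  have hval : ∀ (p : ℂ[X]) (i : ι), aeval A' p *ᵥ v i = p.eval (θ i : ℂ) • v i := by
    intro p i
    have h1 : A' *ᵥ v i = (θ i : ℂ) • v i := by
      funext x
      rw [Pi.smul_apply, smul_eq_mul, ← he i x]
      rfl
    induction p using Polynomial.induction_on' with
    | add p q hp hq => rw [map_add, add_mulVec, hp, hq, eval_add, add_smul]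
    | monomial n a =>
      have h2 : ∀ n : ℕ, A' ^ n *ᵥ v i = (θ i : ℂ) ^ n • v i := by
        intro n
        induction n with
        | zero => rw [pow_zero, pow_zero, one_mulVec, one_smul]
        | succ n ih => rw [pow_succ, ← mulVec_mulVec, h1, mulVec_smul, ih, smul_smul, pow_succ, mul_comm]
      rw [aeval_monomial, eval_monomial, ← mulVec_mulVec, h2, mulVec_smul, Algebra.algebraMap_eq_smul_one, smul_mulVec,
        one_mulVec, smul_smul, mul_comm]
  have hval0 : ∀ (i : ι) (a b : ℂ), a • v i = b • v i → a = b := by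
    intro i a b h
    by_contra hab
    have h1 : (a - b) • v i = 0 := by rw [sub_smul, h, sub_self]
    rcases smul_eq_zero.1 h1 with h2 | h2
    · exact hab (sub_eq_zero.1 h2)
    · exact hv i h2
  have hθ' : Function.Injective (fun i => (θ i : ℂ)) := fun i j h => hθ (Rat.cast_injective (α := ℂ) h)
  -- the polynomials of degree less than the number of orbits give all matrices which commute
  have hsurj : ∀ B : Matrix X X ℂ, (∀ (g : G) (x y : X), B (g • x) (g • y) = B x y) →
      ∃ p : ℂ[X], p.degree < Fintype.card ι ∧ aeval A' p = B := by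
    intro B hB
    let Ψ : degreeLT ℂ (Fintype.card ι) →ₗ[ℂ] (ι → ℂ) :=
      { toFun := fun p i => aeval A' (p : ℂ[X]) (s i).1 (s i).2
        map_add' := fun p q => by
          funext i
          rw [Submodule.coe_add, map_add]
          rfl
        map_smul' := fun c p => by
          funext i
          rw [Submodule.coe_smul, map_smul]
          rfl }
    have hinj : Function.Injective Ψ := by
      rw [← LinearMap.ker_eq_bot, Submodule.eq_bot_iff]
      intro p hp
      have h1 : aeval A' (p : ℂ[X]) = 0 :=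
        eq_zero_of_reps s hs (fun g => (Pm_comm_iff g _).1 (hcomm p g)) fun i => congrFun (LinearMap.mem_ker.1 hp) i
      have h2 : ∀ i, (p : ℂ[X]).eval (θ i : ℂ) = 0 := by
        intro i
        apply hval0 i
        rw [← hval, h1, zero_mulVec, zero_smul]
      apply Subtype.ext
      refine Polynomial.eq_zero_of_degree_lt_of_eval_finset_eq_zero (Finset.univ.image fun i => (θ i : ℂ)) ?_ ?_
      · rw [Finset.card_image_of_injective _ hθ', Finset.card_univ]
        exact mem_degreeLT.1 p.2
      · intro x hx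
        obtain ⟨i, -, rfl⟩ := Finset.mem_image.1 hx
        exact h2 i
    have hfin : finrank ℂ (degreeLT ℂ (Fintype.card ι)) = finrank ℂ (ι → ℂ) := by
      rw [Module.finrank_pi, (degreeLTEquiv ℂ (Fintype.card ι)).finrank_eq, Module.finrank_pi, Fintype.card_fin]
    have hfd : FiniteDimensional ℂ (degreeLT ℂ (Fintype.card ι)) :=
      Module.Finite.equiv (degreeLTEquiv ℂ (Fintype.card ι)).symm
    obtain ⟨p, hp⟩ := (LinearMap.injective_iff_surjective_of_finrank_eq_finrank hfin).1 hinj
      (fun i => B (s i).1 (s i).2)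
    refine ⟨p, mem_degreeLT.1 p.2, ?_⟩
    rw [← sub_eq_zero]
    refine eq_zero_of_reps (G := G) s hs (fun g x y => ?_) fun i => ?_
    · rw [Matrix.sub_apply, Matrix.sub_apply, hB, (Pm_comm_iff g _).1 (hcomm p g)]
    · rw [Matrix.sub_apply, ← congrFun hp i]
      exact sub_self _
  -- the matrix of the character
  obtain ⟨p, hpd, hp⟩ := hsurj (Ph X (χ : G → ℂ)) fun g =>
    (Pm_comm_iff g _).1 (Ph_comm (isIrr_isClassFunction χ.2) g)
  obtain ⟨c, hc⟩ := Ph_mul_self (X := X) χ.2
  have hev : ∀ i, p.eval (θ i : ℂ) = 0 ∨ p.eval (θ i : ℂ) = c := by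
    intro i
    have h1 : (p * p).eval (θ i : ℂ) = c * p.eval (θ i : ℂ) := by
      apply hval0 i
      rw [← hval, map_mul, hp, hc, mul_smul, ← hval, hp, smul_mulVec]
    rw [eval_mul] at h1
    rcases eq_or_ne (p.eval (θ i : ℂ)) 0 with h2 | h2
    · exact Or.inl h2
    · exact Or.inr (mul_right_cancel₀ h2 h1)
  let w : ι → ℚ := fun i => if p.eval (θ i : ℂ) = 0 then 0 else 1
  let p₀ : ℚ[X] := Lagrange.interpolate Finset.univ θ w
  have hp₀ : p = C c * p₀.map φ := by
    refine Polynomial.eq_of_degrees_lt_of_eval_index_eq (s := (Finset.univ : Finset ι)) (v := fun i => (θ i : ℂ))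
      hθ'.injOn ?_ ?_ fun i _ => ?_
    · rw [Finset.card_univ]; exact hpd
    · rw [← smul_eq_C_mul]
      refine lt_of_le_of_lt (degree_smul_le _ _) ?_
      rw [degree_map]
      exact Lagrange.degree_interpolate_lt w hθ.injOn
    · have h1 : p₀.eval (θ i) = w i := Lagrange.eval_interpolate_at_node w hθ.injOn (Finset.mem_univ i)
      have h2 : (p₀.map φ).eval (θ i : ℂ) = (w i : ℂ) := by
        have h3 := Polynomial.eval_map_apply (f := φ) (p := p₀) (θ i)
        rw [h1] at h3
        exact h3
      rw [eval_mul, eval_C, h2]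
      by_cases h4 : p.eval (θ i : ℂ) = 0
      · have h5 : w i = 0 := if_pos h4
        rw [h4, h5, Rat.cast_zero, mul_zero]
      · have h5 : w i = 1 := if_neg h4
        rw [h5, Rat.cast_one, mul_one]
        exact (hev i).resolve_left h4
  have hPh : Ph X (χ : G → ℂ) = c • (aeval A p₀).map φ := by
    rw [← hp, hp₀, map_mul, aeval_C, Algebra.algebraMap_eq_smul_one, smul_mul_assoc, one_mul]
    congr 1
    have h1 : ∀ p : ℚ[X], aeval A' (p.map φ) = φ.mapMatrix (aeval A p) := by
      intro p
      induction p using Polynomial.induction_on' with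
      | add p q hp hq => rw [Polynomial.map_add, map_add, hp, hq, map_add, map_add]
      | monomial n a =>
        rw [map_monomial, aeval_monomial, aeval_monomial, map_mul, map_pow]
        congr 1
        ext i j
        rw [RingHom.mapMatrix_apply, map_apply, Matrix.algebraMap_matrix_apply, Matrix.algebraMap_matrix_apply]
        split_ifs
        · rfl
        · exact (map_zero φ).symm
    exact h1 p₀
  -- the traces
  let t : G → ℚ := fun g => ∑ x, (aeval A p₀) x (g • x)
  have ht : ∀ g : G, Tr X (Ph X (χ : G → ℂ)) g = c * (t g : ℂ) := by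
    intro g
    rw [hPh, map_smul, Pi.smul_apply, smul_eq_mul, Tr_apply]
    congr 1
    unfold trace
    simp only [diag_apply, mul_Pm_apply, map_apply]
    rw [← map_sum]
    rfl
  have hK := fun g => congrFun (Tr_Ph_irr X χ.2) g
  set K : ℂ := (Nat.card G : ℂ) * classInner (perm G X) (χ : G → ℂ) / (χ : G → ℂ) 1 with hKdef
  have hχ1 : (χ : G → ℂ) 1 ≠ 0 := isIrr_apply_one_ne_zero χ.2
  have hK0 : K ≠ 0 := div_ne_zero (mul_ne_zero card_ne_zero_complex hχ) hχ1
  have h1 : ∀ g, c * (t g : ℂ) = K * (χ : G → ℂ) g := by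
    intro g
    rw [← ht, hK]
    rfl
  obtain ⟨n, hn, hn1⟩ := isIrr_apply_one χ.2
  have hct : c * (t 1 : ℂ) ≠ 0 := by
    rw [h1]
    exact mul_ne_zero hK0 hχ1
  refine ⟨n * t g / t 1, ?_⟩
  push_cast
  rw [← hn1, eq_div_iff (right_ne_zero_of_mul hct)]
  have h2 := h1 1
  have h3 := h1 g
  have hc0 := left_ne_zero_of_mul hct
  apply mul_left_cancel₀ (mul_ne_zero hc0 hK0)
  linear_combination K * (χ : G → ℂ) g * h2 - K * (χ : G → ℂ) 1 * h3

/-- the version for a relation on a `G`-set `C` over `X` -/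
theorem rat_of_eigen_fib {C : Type*} [Fintype C] [MulAction G C] (π : C → X)
    (hπ : ∀ (g : G) (c : C), π (g • c) = g • π c) (hsur : Function.Surjective π) {ι : Type*} [Fintype ι]
    (s : ι → X × X) (hs : ∀ x y : X, ∃ i, ∃ g : G, g • (s i).1 = x ∧ g • (s i).2 = y) (T : C → C → Prop)
    [DecidableRel T] (hT : ∀ (g : G) (c d : C), T (g • c) (g • d) ↔ T c d) (θ : ι → ℚ) (hθ : Function.Injective θ)
    (v : ι → X → ℂ) (hv : ∀ i, v i ≠ 0)
    (he : ∀ i x, ∑ c with π c = x, ∑ d with T c d, v i (π d) =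
      ((Finset.univ.filter fun c => π c = x).card : ℂ) * ((θ i : ℂ) * v i x))
    (χ : IrrCharacter G) (hχ : classInner (perm G X) (χ : G → ℂ) ≠ 0) (g : G) : ∃ r : ℚ, (χ : G → ℂ) g = (r : ℂ) := by
  classical
  let N : X → ℕ := fun x => (Finset.univ.filter fun c => π c = x).card
  let m : X → X → ℕ := fun x y => ∑ c with π c = x, (Finset.univ.filter fun d => T c d ∧ π d = y).card
  have hN : ∀ (g : G) (x : X), N (g • x) = N x := by
    intro g x
    symm
    refine Finset.card_bij (fun c _ => g • c) (fun c hc => ?_) (fun c _ d _ h => smul_left_cancel g h) fun c hc => ?_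
    · rw [Finset.mem_filter] at hc ⊢
      exact ⟨Finset.mem_univ _, by rw [hπ, hc.2]⟩
    · rw [Finset.mem_filter] at hc
      refine ⟨g⁻¹ • c, Finset.mem_filter.2 ⟨Finset.mem_univ _, by rw [hπ, hc.2, inv_smul_smul]⟩, smul_inv_smul g c⟩
  have hm : ∀ (g : G) (x y : X), m (g • x) (g • y) = m x y := by
    intro g x y
    symm
    refine Finset.sum_bij (fun c _ => g • c) (fun c hc => ?_) (fun c _ d _ h => smul_left_cancel g h)
      (fun c hc => ?_) fun c hc => ?_
    · rw [Finset.mem_filter] at hc ⊢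
      exact ⟨Finset.mem_univ _, by rw [hπ, hc.2]⟩
    · rw [Finset.mem_filter] at hc
      refine ⟨g⁻¹ • c, Finset.mem_filter.2 ⟨Finset.mem_univ _, by rw [hπ, hc.2, inv_smul_smul]⟩, smul_inv_smul g c⟩
    · refine Finset.card_bij (fun d _ => g • d) (fun d hd => ?_) (fun d _ d' _ h => smul_left_cancel g h) fun d hd => ?_
      · rw [Finset.mem_filter] at hd ⊢
        exact ⟨Finset.mem_univ _, (hT g c d).2 hd.2.1, by rw [hπ, hd.2.2]⟩
      · rw [Finset.mem_filter] at hd
        refine ⟨g⁻¹ • d, Finset.mem_filter.2 ⟨Finset.mem_univ _, ?_, by rw [hπ, hd.2.2, inv_smul_smul]⟩,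
          smul_inv_smul g d⟩
        rw [← hT g, smul_inv_smul]
        exact hd.2.1
  have hN0 : ∀ x, (N x : ℂ) ≠ 0 := by
    intro x
    obtain ⟨c, hc⟩ := hsur x
    have h1 : 0 < N x := Finset.card_pos.2 ⟨c, Finset.mem_filter.2 ⟨Finset.mem_univ _, hc⟩⟩
    exact_mod_cast h1.ne'
  refine rat_of_eigen s hs (fun x y => (m x y : ℚ) / N x) (fun g x y => ?_) θ hθ v hv (fun i x => ?_) χ hχ g
  · simp only [hN, hm]
  · have h1 : ∑ y, (m x y : ℂ) * v i y = ∑ c with π c = x, ∑ d with T c d, v i (π d) := by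
      have h2 : ∀ c : C, ∑ d with T c d, v i (π d) =
          ∑ y, ((Finset.univ.filter fun d => T c d ∧ π d = y).card : ℂ) * v i y := by
        intro c
        rw [← Finset.sum_fiberwise_of_maps_to (g := π) (t := Finset.univ) (fun _ _ => Finset.mem_univ _)]
        refine Finset.sum_congr rfl fun y _ => ?_
        rw [Finset.sum_congr rfl fun d hd => by rw [(Finset.mem_filter.1 hd).2], Finset.sum_const, nsmul_eq_mul,
          Finset.filter_filter]
      simp only [h2]
      rw [Finset.sum_comm]
      refine Finset.sum_congr rfl fun y _ => ?_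
      rw [← Finset.sum_mul]
      congr 1
      show ((∑ c with π c = x, (Finset.univ.filter fun d => T c d ∧ π d = y).card : ℕ) : ℂ) = _
      rw [Nat.cast_sum]
    have h2 : ∀ y, (((m x y : ℚ) / N x : ℚ) : ℂ) * v i y = ((m x y : ℂ) * v i y) / N x := by
      intro y
      push_cast
      ring
    simp only [h2]
    rw [← Finset.sum_div, h1, he, mul_div_assoc, mul_comm, div_mul_cancel₀ _ (hN0 x)]

end

end Cfsg.Agent.H77.RK
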