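import Cfsg.Agent.H77.RK.Wts
import Cfsg.Agent.H77.RK.Rat
import Cfsg.Agent.H116.HeckeE

/-!
# Rational constituents of `1_P^G` for a maximal parabolic subgroup `P` (helper77)

`rat_rgd` : a group with a root group datum all of whose simple root groups have order `q`, `P` the maximal parabolic
subgroup of all nodes but `k`. If the matrix `M` of the neighbour operator on the double cosets `W_J \ W / W_J` has as
many different rational eigenvalues as there are double cosets then the constituents of `1_P^G` are rational valued.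
-/

set_option autoImplicit false
set_option linter.unusedSectionVars false

namespace Cfsg.Agent.H77.RK

open Cfsg CoxeterSystem Cfsg.Agent.ChevalleyStructure.CoxeterGeom Cfsg.Agent.Tits.Roots Cfsg.Agent.Tits.Core
  Cfsg.Agent.Tits.Exchange Cfsg.Agent.Nodes.Reps Cfsg.Agent.Nodes.BNOf Cfsg.Agent.Nodes.StabComb
  Cfsg.Agent.Nodes.Bruhat Cfsg.Agent.Nodes.LeviDec Cfsg.Agent.Nodes.NormalForm Cfsg.Agent.H116
open scoped Classical in

/-- the neighbour operator on functions on the orbit of the weight -/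
noncomputable def opK {I : Type*} {A : I → I → ℤ} {k : I} {m r : ℕ} (D : WDat A k m r) (q : ℂ) (i : I)
    (K : ℕ → ℂ) (z : ℕ) : ℂ :=
  if 0 < D.wt z i then q * K (D.nb z i)
  else if D.wt z i < 0 then K (D.nb z i) + (q - 1) * K z else q * K z

section

variable {I W : Type*} [Fintype I] [DecidableEq I] [Group W] {M : CoxeterMatrix I}
  {cs : CoxeterSystem M W} {A : I → I → ℤ} (h : IsCartan M A) {k : I} {m r : ℕ} (D : WDat A k m r)

/-- the left multiplication of the Hecke algebra on functions of `w ω_k` -/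
theorem L_idx (q : ℕ) (i : I) (K : ℕ → ℂ) (w : W) :
    HeckeA.L cs (q : ℝ) i (fun w => K (D.idx cs h w)) w = opK D q i K (D.idx cs h w) := by
  rw [HeckeA.L_apply]
  simp only [D.idx_simple_mul]
  unfold opK
  rw [D.wt_idx]
  have hcast : (((q : ℝ) : ℂ)) = (q : ℂ) := by push_cast; rfl
  rw [hcast]
  by_cases h1 : 0 < evw cs h k w i
  · rw [if_pos h1, if_neg (by have := length_of_pos cs h h1; omega)]
  · rw [if_neg h1]
    by_cases h2 : evw cs h k w i < 0
    · rw [if_pos h2, if_pos (length_of_neg cs h h2)]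
    · rw [if_neg h2]
      have h3 : D.nb (D.idx cs h w) i = D.idx cs h w :=
        D.nb_of_zero h (D.idx_lt cs h w) (by rw [D.wt_idx]; omega)
      rw [h3]
      split_ifs
      · ring
      · rfl

end

section Bldg

variable {I W : Type*} [Fintype I] [DecidableEq I] [Group W] {M : CoxeterMatrix I}
  {cs : CoxeterSystem M W} {C : Type*} (Δ : Bldg cs C)

/-- moving inside a residue changes the distance by an element of the parabolic subgroup -/
theorem exists_mul_of_mem {J : Set I} {c d : C} (hcd : Δ.δ c d ∈ WJ cs J) (e : C) :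
    ∃ u ∈ WJ cs J, Δ.δ c e = u * Δ.δ d e := by
  have key : ∀ w ∈ WJ cs J, ∀ d : C, Δ.δ c d = w → ∃ u ∈ WJ cs J, Δ.δ c e = u * Δ.δ d e := by
    have hstep : ∀ (w : W), (∀ d : C, Δ.δ c d = w → ∃ u ∈ WJ cs J, Δ.δ c e = u * Δ.δ d e) → ∀ j ∈ J, ∀ d : C,
        Δ.δ c d = w * cs.simple j → ∃ u ∈ WJ cs J, Δ.δ c e = u * Δ.δ d e := by
      intro w ih j hj d hd
      obtain ⟨z, hz, hz'⟩ := Δ.exists_step c d j
      rw [hd, mul_assoc, cs.simple_mul_simple_self, mul_one] at hz'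
      obtain ⟨u, hu, hu'⟩ := ih z hz'
      rcases Δ.step e d z j hz with h1 | h1
      · refine ⟨u * cs.simple j, mul_mem hu (Subgroup.subset_closure ⟨j, hj, rfl⟩), ?_⟩
        rw [hu', Δ.symm e z, h1, mul_inv_rev, cs.inv_simple, ← Δ.symm e d, mul_assoc]
      · exact ⟨u, hu, by rw [hu', Δ.symm e z, h1, ← Δ.symm e d]⟩
    intro w hw
    induction hw using Subgroup.closure_induction_right with
    | one =>
      intro d hd
      rw [(Δ.eq_one c d).1 hd]
      exact ⟨1, one_mem _, (one_mul _).symm⟩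
    | mul_right w _ y hy ih =>
      obtain ⟨j, hj, rfl⟩ := hy
      exact hstep w ih j hj
    | mul_inv_cancel w _ y hy ih =>
      obtain ⟨j, hj, rfl⟩ := hy
      rw [cs.inv_simple]
      exact hstep w ih j hj
  exact key _ hcd d rfl

variable [DecidableEq W] [Fintype C] [DecidableEq C] {q : ℕ}
  (hq : ∀ x i, Nat.card {y // Δ.δ x y = cs.simple i} = q)

include hq in
theorem sum_nbr (H : W → ℂ) (c e : C) (i : I) :
    ∑ d with Δ.δ c d = cs.simple i, H (Δ.δ d e) = HeckeA.L cs (q : ℝ) i H (Δ.δ c e) := by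
  have h1 := congrFun (congrFun (HeckeC.mul_ad Δ hq H i) c) e
  rw [Matrix.mul_apply, HeckeC.ad_apply] at h1
  rw [← h1, Finset.sum_filter]
  refine Finset.sum_congr rfl fun d _ => ?_
  rw [HeckeC.ad_apply, HeckeC.ad_apply, HeckeC.e_apply, ite_mul, one_mul, zero_mul]

variable {A : I → I → ℤ} (h : IsCartan M A) {k : I} {m r : ℕ} (D : WDat A k m r) {X : Type*} [DecidableEq X]
  (π : C → X) (e : C)

/-- the sum over a fibre -/
noncomputable def SS (x : X) (K : ℕ → ℂ) : ℂ := ∑ c with π c = x, K (D.idx cs h (Δ.δ c e))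

theorem SS_eq (x : X) (K : ℕ → ℂ) : SS Δ h D π e x K =
    ∑ z ∈ Finset.range m, ((Finset.univ.filter fun c => π c = x ∧ D.idx cs h (Δ.δ c e) = z).card : ℂ) * K z := by
  unfold SS
  rw [← Finset.sum_fiberwise_of_maps_to (g := fun c => D.idx cs h (Δ.δ c e)) (t := Finset.range m)
    (fun c _ => Finset.mem_range.2 (D.idx_lt cs h _))]
  refine Finset.sum_congr rfl fun z _ => ?_
  rw [Finset.sum_congr rfl fun c hc => by rw [(Finset.mem_filter.1 hc).2], Finset.sum_const, nsmul_eq_mul,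
    Finset.filter_filter]

variable (hπ : ∀ (c d : C) (j : I), j ≠ k → Δ.δ c d = cs.simple j → π c = π d)
  (hπ' : ∀ c d : C, π c = π d → Δ.δ c d ∈ WJ cs {j | j ≠ k})

include hq hπ in
theorem SS_opK (x : X) (K : ℕ → ℂ) {j : I} (hj : j ≠ k) : SS Δ h D π e x (opK D q j K) = q * SS Δ h D π e x K := by
  unfold SS
  have h1 : ∀ c, opK D q j K (D.idx cs h (Δ.δ c e)) =
      ∑ d with Δ.δ c d = cs.simple j, K (D.idx cs h (Δ.δ d e)) := by
    intro c
    rw [← L_idx h D, sum_nbr Δ hq (fun w => K (D.idx cs h w))]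
  simp only [h1]
  have h2 : ∑ c with π c = x, ∑ d with Δ.δ c d = cs.simple j, K (D.idx cs h (Δ.δ d e)) =
      ∑ d with π d = x, ∑ c with Δ.δ d c = cs.simple j, K (D.idx cs h (Δ.δ d e)) := by
    refine Finset.sum_comm' fun c d => ?_
    rw [Finset.mem_filter, Finset.mem_filter, Finset.mem_filter, Finset.mem_filter]
    constructor
    · rintro ⟨⟨-, h3⟩, -, h4⟩
      exact ⟨⟨Finset.mem_univ _, Δ.δ_symm_simple h4⟩, Finset.mem_univ _, by rw [← h3, hπ c d j hj h4]⟩
    · rintro ⟨⟨-, h3⟩, -, h4⟩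
      exact ⟨⟨Finset.mem_univ _, by rw [← h4, hπ d c j hj h3]⟩, Finset.mem_univ _, Δ.δ_symm_simple h3⟩
  rw [h2, Finset.mul_sum]
  refine Finset.sum_congr rfl fun d _ => ?_
  rw [Finset.sum_const, HeckeC.card_filter Δ hq, nsmul_eq_mul]

include hq hπ in
theorem card_nb (x : X) {z : ℕ} (hz : z < m) {j : I} (hj : j ≠ k) (hp : 0 < D.wt z j) :
    ((Finset.univ.filter fun c => π c = x ∧ D.idx cs h (Δ.δ c e) = D.nb z j).card : ℂ) =
      q * ((Finset.univ.filter fun c => π c = x ∧ D.idx cs h (Δ.δ c e) = z).card : ℂ) := by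
  have h1 := SS_opK Δ hq h D π e hπ x (fun z' => if z' = z then 1 else 0) hj
  rw [SS_eq, SS_eq] at h1
  have h2 : ∀ z' ∈ Finset.range m,
      opK D q j (fun z' => if z' = z then 1 else 0) z' = if z' = D.nb z j then 1 else 0 := by
    intro z' hz'
    have hz'm := Finset.mem_range.1 hz'
    have h3 := D.wt_nb z hz j j
    rw [h.diag] at h3
    unfold opK
    dsimp only
    by_cases e1 : z' = D.nb z j
    · subst e1
      rw [if_neg (by omega), if_pos (by omega), D.nb_nb z hz, if_pos rfl, if_pos rfl, if_neg, mul_zero, add_zero]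
      intro e2
      rw [e2] at h3
      omega
    · have e3 : D.nb z' j ≠ z := by
        intro e3
        apply e1
        rw [← e3, D.nb_nb z' hz'm]
      rw [if_neg e1, if_neg e3, mul_zero]
      split_ifs with e4 e5 e6 e7
      · rfl
      · rw [e6] at e5; omega
      · rw [mul_zero, add_zero]
      · rw [e7] at e4; omega
      · rw [mul_zero]
  rw [Finset.sum_congr rfl fun z' hz' => by rw [h2 z' hz']] at h1
  simp only [mul_ite, mul_one, mul_zero] at h1
  rw [Finset.sum_ite_eq' (Finset.range m), Finset.sum_ite_eq' (Finset.range m),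
    if_pos (Finset.mem_range.2 (D.nb_lt z hz j)), if_pos (Finset.mem_range.2 hz)] at h1
  exact h1

include hq hπ hπ' in
/-- **the sum over a fibre** -/
theorem exists_const (c₀ : C) : ∃ N : ℂ, ∀ K : ℕ → ℂ, SS Δ h D π e (π c₀) K =
    N * ∑ z ∈ Finset.range m with D.cl z = D.cl (D.idx cs h (Δ.δ c₀ e)), (q : ℂ) ^ D.e z * K z := by
  set a := D.cl (D.idx cs h (Δ.δ c₀ e)) with ha
  have hcl : ∀ c : C, π c = π c₀ → D.cl (D.idx cs h (Δ.δ c e)) = a := by
    intro c hc
    obtain ⟨u, hu, hu'⟩ := exists_mul_of_mem Δ (hπ' c c₀ hc) e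
    rw [hu', D.cl_mul cs h hu]
  have key : ∀ (n z : ℕ), z < m → D.cl z = a → D.e z = n →
      ((Finset.univ.filter fun c => π c = π c₀ ∧ D.idx cs h (Δ.δ c e) = z).card : ℂ) = (q : ℂ) ^ n *
        ((Finset.univ.filter fun c => π c = π c₀ ∧ D.idx cs h (Δ.δ c e) = D.root a).card : ℂ) := by
    intro n
    induction n with
    | zero =>
      intro z hz hza he
      have h1 := D.root_eq z hz he
      rw [hza] at h1
      rw [h1, pow_zero, one_mul]
    | succ n ih =>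
      intro z hz hza he
      obtain ⟨i, hi, hn⟩ := D.desc z hz (by omega)
      have h1 := D.wt_nb z hz i i
      rw [h.diag] at h1
      have h2 := D.e_nb (D.nb z i) (D.nb_lt z hz i) i hi (by omega)
      rw [D.nb_nb z hz] at h2
      have h3 := card_nb Δ hq h D π e hπ (π c₀) (D.nb_lt z hz i) hi (by omega)
      rw [D.nb_nb z hz, ih (D.nb z i) (D.nb_lt z hz i) (by rw [D.cl_nb z hz i hi, hza]) (by omega)] at h3
      rw [h3, pow_succ]
      ring
  refine ⟨((Finset.univ.filter fun c => π c = π c₀ ∧ D.idx cs h (Δ.δ c e) = D.root a).card : ℂ), fun K => ?_⟩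
  rw [SS_eq, Finset.sum_filter, Finset.mul_sum]
  refine Finset.sum_congr rfl fun z hz => ?_
  by_cases hza : D.cl z = a
  · rw [if_pos hza, key _ z (Finset.mem_range.1 hz) hza rfl]
    ring
  · rw [if_neg hza, mul_zero]
    have h1 : (Finset.univ.filter fun c => π c = π c₀ ∧ D.idx cs h (Δ.δ c e) = z) = ∅ := by
      rw [Finset.filter_eq_empty_iff]
      rintro c - ⟨h1, h2⟩
      exact hza (by rw [← h2, hcl c h1])
    rw [h1, Finset.card_empty, Nat.cast_zero, zero_mul]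

include hq hπ hπ' in
/-- the eigenfunctions -/
theorem eigen (F : ℕ → ℂ) (θ : ℂ) (hF : ∀ a < r, ∑ z ∈ Finset.range m with D.cl z = a,
    (q : ℂ) ^ D.e z * opK D q k (fun z => F (D.cl z)) z =
      θ * ((∑ z ∈ Finset.range m with D.cl z = a, (q : ℂ) ^ D.e z) * F a)) (c₀ : C) :
    ∑ c with π c = π c₀, ∑ d with Δ.δ c d = cs.simple k, F (D.cl (D.idx cs h (Δ.δ d e))) =
      ((Finset.univ.filter fun c => π c = π c₀).card : ℂ) * (θ * F (D.cl (D.idx cs h (Δ.δ c₀ e)))) := by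
  set a := D.cl (D.idx cs h (Δ.δ c₀ e)) with ha
  obtain ⟨N, hN⟩ := exists_const Δ hq h D π e hπ hπ' c₀
  have h1 : ∀ c, ∑ d with Δ.δ c d = cs.simple k, F (D.cl (D.idx cs h (Δ.δ d e))) =
      opK D q k (fun z => F (D.cl z)) (D.idx cs h (Δ.δ c e)) := by
    intro c
    rw [← L_idx h D, sum_nbr Δ hq (fun w => F (D.cl (D.idx cs h w)))]
  simp only [h1]
  have h2 := hN (opK D q k (fun z => F (D.cl z)))
  have h3 := hN (fun _ => 1)
  unfold SS at h2 h3
  rw [h2, hF a (D.cl_lt _ (D.idx_lt cs h _))]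
  rw [Finset.sum_const, nsmul_eq_mul, mul_one] at h3
  simp only [mul_one] at h3
  rw [h3]
  ring

end Bldg

section Rgd

universe u

variable {I W : Type*} {Y : Type u} [Fintype I] [DecidableEq I] [Group W] [Group Y] {M : CoxeterMatrix I}
  {cs : CoxeterSystem M W} {A : I → I → ℤ} {h : IsCartan M A} {p : ℕ} {T : Subgroup Y} {n : I → Y}
  {X : (I → ℤ) → Subgroup Y}

/-- **Rational constituents of the permutation character of a maximal parabolic subgroup.** -/
theorem rat_rgd [Finite W] [Finite Y] [Fintype Y] (R : RGD cs h p T n X)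
    (hgen : RGD.B cs h T X ⊔ NN cs R.nsys = ⊤) {q : ℕ} (hq : ∀ i, Nat.card (X (sr i)) = q) {k : I} {m r : ℕ}
    (D : WDat A k m r) (θ : Fin r → ℚ) (hθ : Function.Injective θ) (F : Fin r → ℕ → ℂ)
    (hF0 : ∀ i, ∃ a < r, F i a ≠ 0)
    (hF : ∀ i, ∀ a < r, ∑ z ∈ Finset.range m with D.cl z = a,
      (q : ℂ) ^ D.e z * opK D q k (fun z => F i (D.cl z)) z =
        (θ i : ℂ) * ((∑ z ∈ Finset.range m with D.cl z = a, (q : ℂ) ^ D.e z) * F i a))
    (χ : IrrCharacter Y)
    (hχ : classInner (HeckeD.perm Y (Y ⧸ PJ cs h T X {j | j ≠ k})) (χ : Y → ℂ) ≠ 0) (g : Y) :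
    ∃ c : ℚ, (χ : Y → ℂ) g = (c : ℂ) := by
  classical
  obtain ⟨B, hB⟩ : ∃ B, B = RGD.B cs h T X := ⟨_, rfl⟩
  have hex0 : ∃ Δ : Bldg cs (Y ⧸ RGD.B cs h T X),
      (∀ (g : Y) (x y : Y ⧸ RGD.B cs h T X), Δ.δ (g • x) (g • y) = Δ.δ x y) ∧
      (∀ (a b k : Y) (w : W), Rp cs R.nsys w k → (Δ.δ (QuotientGroup.mk a) (QuotientGroup.mk b) = w ↔
        ∃ b₁ ∈ RGD.B cs h T X, ∃ b₂ ∈ RGD.B cs h T X, a⁻¹ * b = b₁ * k * b₂)) ∧
      ∀ (x : Y ⧸ RGD.B cs h T X) (i : I), Nat.card {y // Δ.δ x y = cs.simple i} = q := by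
    obtain ⟨Δ, hiso, htr, hδ⟩ := H167.SteinbergRGD.exists_bldg R hgen
    exact ⟨Δ, hiso, hδ, fun x i => by rw [HeckeE.card_nbr R Δ hδ, hq]⟩
  rw [← hB] at hex0
  obtain ⟨Δ, hiso, hδ, hq'⟩ := hex0
  set P := PJ cs h T X {j | j ≠ k} with hP
  have hBP : B ≤ P := by rw [hB]; exact B_le_PJ
  let _ : Fintype (Y ⧸ B) := Fintype.ofFinite _
  let _ : Fintype (Y ⧸ P) := Fintype.ofFinite _
  have hTB : T ≤ B := by rw [hB]; exact fun t ht => RGD.T_le_B ht
  have hcell : ∀ (a b : Y) (w : W), Δ.δ (QuotientGroup.mk a) (QuotientGroup.mk b) = w ↔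
      ∃ b₁ ∈ B, ∃ k', Rp cs R.nsys w k' ∧ ∃ b₂ ∈ B, a⁻¹ * b = b₁ * k' * b₂ := by
    intro a b w
    obtain ⟨kw, hkw⟩ := exists_rp cs R.nsys w
    rw [hδ a b kw w hkw]
    constructor
    · rintro ⟨b₁, h1, b₂, h2, e⟩
      exact ⟨b₁, h1, kw, hkw, b₂, h2, e⟩
    · rintro ⟨b₁, h1, k', hk', b₂, h2, e⟩
      refine ⟨b₁, h1, (kw⁻¹ * k') * b₂, mul_mem (hTB (hkw.unique hk')) h2, ?_⟩
      rw [e]
      group
  let π : Y ⧸ B → Y ⧸ P := Subgroup.quotientMapOfLE hBP
  have hπmk : ∀ a : Y, π (QuotientGroup.mk a) = QuotientGroup.mk a := fun a => rfl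
  have hπg : ∀ (g : Y) (c : Y ⧸ B), π (g • c) = g • π c := by
    intro g c
    induction c using QuotientGroup.induction_on with
    | _ a => rfl
  have hsur : Function.Surjective π := by
    intro x
    induction x using QuotientGroup.induction_on with
    | _ a => exact ⟨QuotientGroup.mk a, rfl⟩
  have hπ : ∀ (c d : Y ⧸ B) (j : I), j ≠ k → Δ.δ c d = cs.simple j → π c = π d := by
    intro c d j hj hcd
    induction c using QuotientGroup.induction_on with
    | _ a =>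
    induction d using QuotientGroup.induction_on with
    | _ b =>
    rw [hπmk, hπmk, QuotientGroup.eq, hP, mem_PJ_iff_cell R]
    have h1 := (hcell a b _).1 hcd
    rw [hB] at h1
    exact ⟨_, Subgroup.subset_closure ⟨j, hj, rfl⟩, h1⟩
  have hπ' : ∀ c d : Y ⧸ B, π c = π d → Δ.δ c d ∈ WJ cs {j | j ≠ k} := by
    intro c d hcd
    induction c using QuotientGroup.induction_on with
    | _ a =>
    induction d using QuotientGroup.induction_on with
    | _ b =>
    rw [hπmk, hπmk, QuotientGroup.eq, hP, mem_PJ_iff_cell R] at hcd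
    obtain ⟨w, hw, hc⟩ := hcd
    rw [(hcell a b w).2 (by rw [hB]; exact hc)]
    exact hw
  set e : Y ⧸ B := QuotientGroup.mk 1 with he
  have hclπ : ∀ c d : Y ⧸ B, π c = π d → D.cl (D.idx cs h (Δ.δ c e)) = D.cl (D.idx cs h (Δ.δ d e)) := by
    intro c d hcd
    obtain ⟨u, hu, hu'⟩ := exists_mul_of_mem Δ (hπ' c d hcd) e
    rw [hu', D.cl_mul cs h hu]
  -- the functions
  choose sec hsec using hsur
  let v : Fin r → (Y ⧸ P) → ℂ := fun i x => F i (D.cl (D.idx cs h (Δ.δ (sec x) e)))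
  have hv : ∀ i c, v i (π c) = F i (D.cl (D.idx cs h (Δ.δ c e))) := by
    intro i c
    show F i (D.cl (D.idx cs h (Δ.δ (sec (π c)) e))) = _
    rw [hclπ _ c (hsec (π c))]
  -- representatives of the orbits
  have hex : ∀ a : Fin r, ∃ b : Y, ∃ w : W, Cell R.nsys cs h X w b ∧ D.cl (D.idx cs h w) = a := by
    intro a
    obtain ⟨w, hw⟩ := D.exists_cl_eq cs h a.2
    obtain ⟨b, hb⟩ := exists_rp cs R.nsys w
    exact ⟨b, w, cell_of_rp hb, hw⟩
  choose b w₀ hbw hw₀ using hex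
  refine rat_of_eigen_fib (X := Y ⧸ P) (C := Y ⧸ B) π hπg (fun x => ⟨sec x, hsec x⟩)
    (fun a : Fin r => ((QuotientGroup.mk 1 : Y ⧸ P), (QuotientGroup.mk (b a) : Y ⧸ P))) ?_
    (fun c d => Δ.δ c d = cs.simple k) (fun g c d => by rw [hiso]) θ hθ v ?_ ?_ χ hχ g
  · intro x y
    induction x using QuotientGroup.induction_on with
    | _ a =>
    induction y using QuotientGroup.induction_on with
    | _ a' =>
    have h1 := (hcell a a' _).1 rfl
    set w := Δ.δ (QuotientGroup.mk a) (QuotientGroup.mk a') with hw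
    let i : Fin r := ⟨D.cl (D.idx cs h w), D.cl_lt _ (D.idx_lt cs h w)⟩
    have h2 : D.cl (D.idx cs h w) = D.cl (D.idx cs h (w₀ i)) := (hw₀ i).symm
    obtain ⟨u, hu, u', hu', e1⟩ := D.double_coset cs h h2
    obtain ⟨b₁, hb₁, kw, hkw, b₂, hb₂, e2⟩ := h1
    obtain ⟨c₁, hc₁, kw', hkw', c₂, hc₂, e3⟩ := hbw i
    rw [← hB] at hc₁ hc₂
    obtain ⟨ku, hku⟩ := exists_rp cs R.nsys u
    obtain ⟨ku', hku'⟩ := exists_rp cs R.nsys u'
    have hkuP : ku ∈ P := by
      rw [hP, mem_PJ_iff_cell R]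
      exact ⟨u, hu, cell_of_rp hku⟩
    have hkuP' : ku' ∈ P := by
      rw [hP, mem_PJ_iff_cell R]
      exact ⟨u', hu', cell_of_rp hku'⟩
    have ht : (ku * kw * ku')⁻¹ * kw' ∈ T := by
      have h3 := (hku.mul hkw).mul hku'
      rw [← e1] at h3
      exact h3.unique hkw'
    have htP : (ku * kw * ku')⁻¹ * kw' ∈ P := hBP (hTB ht)
    refine ⟨i, a * b₁ * ku⁻¹ * c₁⁻¹, ?_, ?_⟩
    · show (QuotientGroup.mk (a * b₁ * ku⁻¹ * c₁⁻¹ * 1) : Y ⧸ P) = QuotientGroup.mk a
      rw [QuotientGroup.eq]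
      have h4 : (a * b₁ * ku⁻¹ * c₁⁻¹ * 1)⁻¹ * a = c₁ * ku * b₁⁻¹ := by group
      rw [h4]
      exact mul_mem (mul_mem (hBP hc₁) hkuP) (inv_mem (hBP hb₁))
    · show (QuotientGroup.mk (a * b₁ * ku⁻¹ * c₁⁻¹ * b i) : Y ⧸ P) = QuotientGroup.mk a'
      rw [QuotientGroup.eq, e3]
      have h5 : a' = a * (b₁ * kw * b₂) := by rw [← e2]; group
      have h4 : (a * b₁ * ku⁻¹ * c₁⁻¹ * (c₁ * kw' * c₂))⁻¹ * a' =
          c₂⁻¹ * ((ku * kw * ku')⁻¹ * kw')⁻¹ * ku'⁻¹ * b₂ := by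
        rw [h5]
        group
      rw [h4]
      exact mul_mem (mul_mem (mul_mem (inv_mem (hBP hc₂)) (inv_mem htP)) (inv_mem hkuP')) (hBP hb₂)
  · intro i h0
    obtain ⟨a, ha, hFa⟩ := hF0 i
    apply hFa
    have h1 := congrFun h0 (QuotientGroup.mk (b ⟨a, ha⟩)⁻¹)
    rw [← hπmk, hv] at h1
    have h2 : Δ.δ (QuotientGroup.mk (b ⟨a, ha⟩)⁻¹) e = w₀ ⟨a, ha⟩ := by
      rw [he, hcell, inv_inv, mul_one, hB]
      exact hbw ⟨a, ha⟩
    rw [h2, hw₀] at h1
    exact h1
  · intro i x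
    have h1 := eigen Δ hq' h D π e hπ hπ' (F i) (θ i : ℂ) (hF i) (sec x)
    rw [hsec x] at h1
    simp only [hv]
    exact h1

end Rgd

end Cfsg.Agent.H77.RK
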