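import Mathlib

/-!
# Integer polynomials as lists, with identities checked at `2 ^ 64` (helper77)
-/

set_option autoImplicit false
set_option linter.unusedSectionVars false

namespace Cfsg.Agent.H77.RK

/-- the value at `q` -/
def evL {R : Type*} [CommRing R] (q : R) : List ℤ → R
  | [] => 0
  | c :: l => (c : R) + q * evL q l

/-- the sum of the absolute values of the coefficients -/
def n1 : List ℤ → ℕ
  | [] => 0
  | c :: l => c.natAbs + n1 l

def addL : List ℤ → List ℤ → List ℤ
  | [], m => m
  | c :: l, [] => c :: l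
  | c :: l, d :: m => (c + d) :: addL l m

def smulL (c : ℤ) : List ℤ → List ℤ
  | [] => []
  | d :: l => (c * d) :: smulL c l

def mulL : List ℤ → List ℤ → List ℤ
  | [], _ => []
  | c :: l, m => addL (smulL c m) (0 :: mulL l m)

section

variable {R : Type*} [CommRing R] (q : R)

theorem evL_nil : evL q [] = 0 := rfl
theorem evL_cons (c : ℤ) (l : List ℤ) : evL q (c :: l) = c + q * evL q l := rfl

theorem evL_addL (l m : List ℤ) : evL q (addL l m) = evL q l + evL q m := by
  induction l generalizing m with
  | nil => simp [addL, evL]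
  | cons c l ih =>
    cases m with
    | nil => simp [addL, evL]
    | cons d m =>
      simp only [addL, evL, ih, Int.cast_add]
      ring

theorem evL_smulL (c : ℤ) (l : List ℤ) : evL q (smulL c l) = c * evL q l := by
  induction l with
  | nil => simp [smulL, evL]
  | cons d l ih =>
    simp only [smulL, evL, ih, Int.cast_mul]
    ring

theorem evL_mulL (l m : List ℤ) : evL q (mulL l m) = evL q l * evL q m := by
  induction l with
  | nil => simp [mulL, evL]
  | cons c l ih =>
    simp only [mulL, evL, evL_addL, evL_smulL, ih, Int.cast_zero]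
    ring

theorem n1_addL (l m : List ℤ) : n1 (addL l m) ≤ n1 l + n1 m := by
  induction l generalizing m with
  | nil => simp [addL, n1]
  | cons c l ih =>
    cases m with
    | nil => simp [addL, n1]
    | cons d m =>
      simp only [addL, n1]
      have h1 := ih m
      have h2 := Int.natAbs_add_le c d
      omega

theorem n1_smulL (c : ℤ) (l : List ℤ) : n1 (smulL c l) = c.natAbs * n1 l := by
  induction l with
  | nil => simp [smulL, n1]
  | cons d l ih =>
    simp only [smulL, n1, ih, Int.natAbs_mul]
    ring

theorem n1_mulL (l m : List ℤ) : n1 (mulL l m) ≤ n1 l * n1 m := by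
  induction l with
  | nil => simp [mulL, n1]
  | cons c l ih =>
    simp only [mulL, n1]
    have h1 := n1_addL (smulL c m) (0 :: mulL l m)
    rw [n1_smulL] at h1
    have h2 : n1 (0 :: mulL l m) = n1 (mulL l m) := by simp [n1]
    rw [h2] at h1
    rw [add_mul]
    omega

/-- a polynomial with small coefficients which vanishes at a large integer is zero -/
theorem evL_eq_zero {B : ℕ} (l : List ℤ) (h1 : n1 l < B) (h : evL (B : ℤ) l = 0) : evL q l = 0 := by
  induction l with
  | nil => rfl
  | cons c l ih =>
    simp only [n1] at h1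
    simp only [evL, Int.cast_id] at h
    have hc : c = 0 := by
      have h2 : (B : ℤ) ∣ c := ⟨-evL (B : ℤ) l, by linear_combination h⟩
      by_contra hc
      have h3 := Int.natAbs_dvd_natAbs.2 h2
      rw [Int.natAbs_natCast] at h3
      have h4 := Nat.le_of_dvd (Int.natAbs_pos.2 hc) h3
      omega
    subst hc
    rw [zero_add] at h
    have hB : (B : ℤ) ≠ 0 := by
      have : 0 < B := by omega
      exact_mod_cast this.ne'
    rw [evL_cons, ih (by omega) ((mul_eq_zero.1 h).resolve_left hB), Int.cast_zero, mul_zero, add_zero]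

end

/-- all coefficients are nonnegative and the constant coefficient is positive -/
def posL : List ℤ → Bool
  | [] => false
  | c :: l => decide (0 < c) && l.all fun d => decide (0 ≤ d)

theorem nonneg_of_all {q : ℚ} (hq : 0 ≤ q) (l : List ℤ) (h : (l.all fun d => decide (0 ≤ d)) = true) : 0 ≤ evL q l := by
  induction l with
  | nil => exact le_rfl
  | cons c l ih =>
    rw [List.all_cons, Bool.and_eq_true, decide_eq_true_eq] at h
    rw [evL_cons]
    have h1 : (0 : ℚ) ≤ c := by exact_mod_cast h.1
    exact add_nonneg h1 (mul_nonneg hq (ih h.2))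

theorem pos_of_posL {q : ℚ} (hq : 0 ≤ q) (l : List ℤ) (h : posL l = true) : 0 < evL q l := by
  cases l with
  | nil => exact absurd (show false = true from h) (by decide)
  | cons c l =>
    unfold posL at h
    rw [Bool.and_eq_true, decide_eq_true_eq] at h
    rw [evL_cons]
    have h1 : (0 : ℚ) < c := by exact_mod_cast h.1
    exact add_pos_of_pos_of_nonneg h1 (mul_nonneg hq (nonneg_of_all hq l h.2))

/-- the polynomial in `q - 2` -/
def shL : List ℤ → List ℤ
  | [] => []
  | c :: l => addL [c] (addL (smulL 2 (shL l)) (0 :: shL l))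

theorem evL_shL {R : Type*} [CommRing R] (q : R) (l : List ℤ) : evL q (shL l) = evL (q + 2) l := by
  induction l with
  | nil => rfl
  | cons c l ih =>
    simp only [shL, evL_addL, evL_smulL, evL_cons, evL_nil, ih, Int.cast_zero, Int.cast_ofNat]
    ring

theorem lt_of_shL {q : ℚ} (hq : 2 ≤ q) (l m : List ℤ) (h : posL (shL (addL m (smulL (-1) l))) = true) :
    evL q l < evL q m := by
  have h1 := pos_of_posL (q := q - 2) (by linarith) _ h
  rw [evL_shL, sub_add_cancel, evL_addL, evL_smulL] at h1
  push_cast at h1
  linarith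

/-- the base -/
def KB : ℤ := 18446744073709551616

theorem KB_eq : KB = ((2 ^ 64 : ℕ) : ℤ) := by norm_num [KB]

/-- identities checked at `2 ^ 64` -/
theorem mul_eq_mul_of {R : Type*} [CommRing R] (q : R) (a b c d : List ℤ)
    (h1 : n1 a * n1 b + n1 c * n1 d < 2 ^ 64)
    (h : evL KB a * evL KB b = evL KB c * evL KB d) :
    evL q a * evL q b = evL q c * evL q d := by
  rw [KB_eq] at h
  have h2 := evL_eq_zero q (B := 2 ^ 64) (addL (mulL a b) (smulL (-1) (mulL c d))) (by
    have h3 := n1_addL (mulL a b) (smulL (-1) (mulL c d))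
    rw [n1_smulL] at h3
    have h4 := n1_mulL a b
    have h5 := n1_mulL c d
    simp only [Int.natAbs_neg, Int.natAbs_one, one_mul] at h3
    omega) (by
    rw [evL_addL, evL_smulL, evL_mulL, evL_mulL, h]
    push_cast
    ring)
  rw [evL_addL, evL_smulL, evL_mulL, evL_mulL] at h2
  push_cast at h2
  linear_combination h2

/-- `∑_{a < n} P_a B_a` -/
def dotL (P B : ℕ → List ℤ) : ℕ → List ℤ
  | 0 => []
  | n + 1 => addL (dotL P B n) (mulL (P n) (B n))

theorem n1_dotL (P B : ℕ → List ℤ) (n : ℕ) : n1 (dotL P B n) ≤ ∑ a ∈ Finset.range n, n1 (P a) * n1 (B a) := by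
  induction n with
  | zero => simp [dotL, n1]
  | succ n ih =>
    rw [Finset.sum_range_succ, dotL]
    have h3 := n1_addL (dotL P B n) (mulL (P n) (B n))
    have h4 := n1_mulL (P n) (B n)
    omega

theorem evL_dotL {R : Type*} [CommRing R] (q : R) (P B : ℕ → List ℤ) (n : ℕ) :
    evL q (dotL P B n) = ∑ a ∈ Finset.range n, evL q (P a) * evL q (B a) := by
  induction n with
  | zero => simp [dotL, evL]
  | succ n ih => rw [Finset.sum_range_succ, dotL, evL_addL, evL_mulL, ih]

/-- `∑ P_a B_a = c d` -/
theorem sum_mul_eq_of {R : Type*} [CommRing R] (q : R) (n : ℕ) (P B : ℕ → List ℤ) (c d : List ℤ)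
    (h1 : ∑ a ∈ Finset.range n, n1 (P a) * n1 (B a) + n1 c * n1 d < 2 ^ 64)
    (h : ∑ a ∈ Finset.range n, evL KB (P a) * evL KB (B a) = evL KB c * evL KB d) :
    ∑ a ∈ Finset.range n, evL q (P a) * evL q (B a) = evL q c * evL q d := by
  rw [KB_eq] at h
  have h2 := evL_eq_zero q (B := 2 ^ 64) (addL (dotL P B n) (smulL (-1) (mulL c d))) (by
    have h3 := n1_addL (dotL P B n) (smulL (-1) (mulL c d))
    rw [n1_smulL] at h3
    have h4 := n1_dotL P B n
    have h5 := n1_mulL c d
    simp only [Int.natAbs_neg, Int.natAbs_one, one_mul] at h3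
    omega) (by
    rw [evL_addL, evL_smulL, evL_mulL, evL_dotL, h]
    push_cast
    ring)
  rw [evL_addL, evL_smulL, evL_mulL, evL_dotL] at h2
  push_cast at h2
  linear_combination h2

end Cfsg.Agent.H77.RK
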