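import Cfsg.Agent.H77.RK.Tab
import Cfsg.Agent.H77.RK.Pol
import Cfsg.Agent.H77.RK.Bld

/-!
# Certificates for the rationality of the constituents of `1_P^G` (helper77)

`Cert` : a table (`Tab`), the run lengths of the table, and polynomials: `Bp a b` the number of neighbours in the class
`b` of a point in the class `a`, `Pp i` the left eigenvectors, `th i` the eigenvalues. `Cert.exists_eigen` : the
hypotheses of `rat_rgd` for all `q ≥ 2`.
-/

set_option autoImplicit false
set_option linter.unusedSectionVars false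

namespace Cfsg.Agent.H77.RK

structure Cert extends Tab where
  runs : List (ℕ × ℕ × ℕ × ℕ × ℕ)
  Bp : List (List (List ℤ))
  Pp : List (List (List ℤ))
  th : List (List ℤ)
  lam : List ℤ

/-- `c q ^ e` -/
def monL (c : ℤ) : ℕ → List ℤ
  | 0 => [c]
  | n + 1 => 0 :: monL c n

theorem evL_monL {R : Type*} [CommRing R] (q : R) (c : ℤ) (n : ℕ) : evL q (monL c n) = (c : R) * q ^ n := by
  induction n with
  | zero => simp [monL, evL]
  | succ n ih =>
    rw [monL, evL_cons, ih, pow_succ]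
    push_cast
    ring

/-- the sum of `f i` for `i < n` -/
noncomputable def sumZ (n : ℕ) (f : ℕ → ℤ) : ℤ := Nat.rec 0 (fun i acc => Int.add (f i) acc) n

theorem sumZ_eq (n : ℕ) (f : ℕ → ℤ) : sumZ n f = ∑ i ∈ Finset.range n, f i := by
  induction n with
  | zero => rfl
  | succ n ih =>
    rw [Finset.sum_range_succ, ← ih, add_comm (_ : _) (f n)]
    rfl

/-- the sum of `f i` for `i < n` -/
noncomputable def sumN (n : ℕ) (f : ℕ → ℕ) : ℕ := Nat.rec 0 (fun i acc => Nat.add (f i) acc) n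

theorem sumN_eq (n : ℕ) (f : ℕ → ℕ) : sumN n f = ∑ i ∈ Finset.range n, f i := by
  induction n with
  | zero => rfl
  | succ n ih =>
    rw [Finset.sum_range_succ, ← ih, add_comm (_ : _) (f n)]
    rfl

/-- the coefficient polynomial of a run -/
def termL (b : ℕ) (x : ℕ × ℕ × ℕ × ℕ × ℕ) : List ℤ :=
  if x.2.2.1 = 2 then (if x.2.1 = b then monL x.2.2.2.2 (x.2.2.2.1 + 1) else [])
  else if x.2.2.1 = 1 then (if x.1 = b then monL x.2.2.2.2 (x.2.2.2.1 + 1) else [])
  else addL (if x.2.1 = b then monL x.2.2.2.2 x.2.2.2.1 else [])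
    (if x.1 = b then addL (monL x.2.2.2.2 (x.2.2.2.1 + 1)) (monL (-(x.2.2.2.2 : ℤ)) x.2.2.2.1) else [])

/-- the neighbour operator -/
def MPl (a b : ℕ) : List (ℕ × ℕ × ℕ × ℕ × ℕ) → List ℤ
  | [] => []
  | x :: l => if x.1 = a then addL (termL b x) (MPl a b l) else MPl a b l

/-- the size of a class -/
def NPl (a : ℕ) : List (ℕ × ℕ × ℕ × ℕ × ℕ) → List ℤ
  | [] => []
  | x :: l => if x.1 = a then addL (monL x.2.2.2.2 x.2.2.2.1) (NPl a l) else NPl a l

/-- all classes in the runs are less than `r` -/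
def chkL (r : ℕ) : List (ℕ × ℕ × ℕ × ℕ × ℕ) → Bool
  | [] => true
  | x :: l => and (Nat.blt x.1 r) (and (Nat.blt x.2.1 r) (chkL r l))

namespace Cert

variable (c : Cert)

def sg (z : ℕ) : ℕ := cond (Nat.blt (c.d z c.k) 8) 0 (cond (Nat.beq (c.d z c.k) 8) 1 2)

/-- the table is the concatenation of the runs -/
noncomputable def chkR : List (ℕ × ℕ × ℕ × ℕ × ℕ) → ℕ → Bool
  | [], s => Nat.beq s c.m
  | x :: l, s => and (allN x.2.2.2.2 fun i => and (Nat.beq (c.cl (Nat.add s i)) x.1)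
      (and (Nat.beq (c.cl (c.nb (Nat.add s i) c.k)) x.2.1)
        (and (Nat.beq (c.sg (Nat.add s i)) x.2.2.1) (Nat.beq (c.ee (Nat.add s i)) x.2.2.2.1))))
      (chkR l (Nat.add s x.2.2.2.2))

def NP (a : ℕ) : List ℤ := NPl a c.runs
def MP (a b : ℕ) : List ℤ := MPl a b c.runs
def B (a b : ℕ) : List ℤ := (c.Bp.getD a []).getD b []
def P (i a : ℕ) : List ℤ := (c.Pp.getD i []).getD a []
def T (i : ℕ) : List ℤ := c.th.getD i []

/-- the check of the polynomials -/
noncomputable def chkP : Bool :=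
  and (allN c.r fun a => and (posL (c.NP a)) (allN c.r fun b =>
    and (Nat.blt (Nat.add (Nat.mul (n1 (c.B a b)) (n1 (c.NP a))) (Nat.mul (n1 c.lam) (n1 (c.MP a b))))
        18446744073709551616)
      (decide (Int.mul (evL KB (c.B a b)) (evL KB (c.NP a)) = Int.mul (evL KB c.lam) (evL KB (c.MP a b))))))
  (and (allN c.r fun i => and (decide (c.P i 0 = [1])) (allN c.r fun b =>
    and (Nat.blt (Nat.add (sumN c.r fun a => Nat.mul (n1 (c.P i a)) (n1 (c.B a b)))
        (Nat.mul (n1 (c.T i)) (n1 (c.P i b)))) 18446744073709551616)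
      (decide (sumZ c.r (fun a => Int.mul (evL KB (c.P i a)) (evL KB (c.B a b))) =
        Int.mul (evL KB (c.T i)) (evL KB (c.P i b))))))
  (and (posL c.lam) (and (Nat.blt 0 c.r) (and (chkL c.r c.runs) (allN c.r fun i => or (Nat.ble c.r (i + 1))
    (posL (shL (addL (c.T (i + 1)) (smulL (-1) (c.T i))))))))))

/-- sums over the table -/
theorem sum_runs {R : Type*} [CommRing R] (g : ℕ → ℕ → ℕ → ℕ → R) : ∀ (l : List (ℕ × ℕ × ℕ × ℕ × ℕ)) (s : ℕ),
    c.chkR l s = true → s ≤ c.m ∧ ∑ z ∈ Finset.Ico s c.m, g (c.cl z) (c.cl (c.nb z c.k)) (c.sg z) (c.ee z) =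
      (l.map fun x => (x.2.2.2.2 : R) * g x.1 x.2.1 x.2.2.1 x.2.2.2.1).sum := by
  intro l
  induction l with
  | nil =>
    intro s hs
    have h1 : s = c.m := Tab.nat_beq.1 hs
    rw [h1]
    exact ⟨le_rfl, by simp⟩
  | cons x l ih =>
    intro s hs
    unfold chkR at hs
    rw [Bool.and_eq_true, allN_iff] at hs
    obtain ⟨h1, h2⟩ := ih (s + x.2.2.2.2) hs.2
    refine ⟨by omega, ?_⟩
    rw [← Finset.sum_Ico_consecutive _ (Nat.le_add_right s x.2.2.2.2) h1, h2, List.map_cons, List.sum_cons]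
    congr 1
    rw [Finset.sum_Ico_eq_sum_range, Nat.add_sub_cancel_left, Finset.sum_congr rfl fun i hi => by
      have h3 := hs.1 i (Finset.mem_range.1 hi)
      simp only [Bool.and_eq_true] at h3
      have h4 : c.cl (s + i) = x.1 := Tab.nat_beq.1 h3.1
      have h5 : c.cl (c.nb (s + i) c.k) = x.2.1 := Tab.nat_beq.1 h3.2.1
      have h6 : c.sg (s + i) = x.2.2.1 := Tab.nat_beq.1 h3.2.2.1
      have h7 : c.ee (s + i) = x.2.2.2.1 := Tab.nat_beq.1 h3.2.2.2
      rw [h4, h5, h6, h7]]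
    rw [Finset.sum_const, Finset.card_range, nsmul_eq_mul]

/-- the operator on functions of the class -/
noncomputable def opF {R : Type*} [CommRing R] (q : R) (F : ℕ → R) (a b t : ℕ) : R :=
  if t = 2 then q * F b else if t = 1 then q * F a else F b + (q - 1) * F a

theorem sum_termL {R : Type*} [CommRing R] (q : R) (F : ℕ → R) (r : ℕ) (x : ℕ × ℕ × ℕ × ℕ × ℕ) (h1 : x.1 < r)
    (h2 : x.2.1 < r) : ∑ b ∈ Finset.range r, evL q (termL b x) * F b =
      (x.2.2.2.2 : R) * (q ^ x.2.2.2.1 * opF q F x.1 x.2.1 x.2.2.1) := by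
  unfold termL opF
  have key : ∀ (y : ℕ) (hy : y < r) (l : List ℤ), ∑ b ∈ Finset.range r, evL q (if y = b then l else []) * F b =
      evL q l * F y := by
    intro y hy l
    rw [Finset.sum_eq_single y]
    · rw [if_pos rfl]
    · intro b _ hb
      rw [if_neg fun h => hb h.symm, evL_nil, zero_mul]
    · intro h
      exact absurd (Finset.mem_range.2 hy) h
  split_ifs with h3 h4
  · rw [key _ h2, evL_monL, pow_succ]
    push_cast
    ring
  · rw [key _ h1, evL_monL, pow_succ]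
    push_cast
    ring
  · simp only [evL_addL, add_mul]
    rw [Finset.sum_add_distrib, key _ h2, key _ h1, evL_addL, evL_monL, evL_monL, evL_monL, pow_succ]
    push_cast
    ring

theorem sum_MPl {R : Type*} [CommRing R] (q : R) (F : ℕ → R) (r a : ℕ) : ∀ l : List (ℕ × ℕ × ℕ × ℕ × ℕ),
    chkL r l = true → ∑ b ∈ Finset.range r, evL q (MPl a b l) * F b =
      (l.map fun x => (x.2.2.2.2 : R) * (if x.1 = a then q ^ x.2.2.2.1 * opF q F x.1 x.2.1 x.2.2.1 else 0)).sum := by
  intro l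
  induction l with
  | nil => intro _; simp [MPl, evL]
  | cons x l ih =>
    intro hl
    unfold chkL at hl
    rw [Bool.and_eq_true, Bool.and_eq_true] at hl
    rw [List.map_cons, List.sum_cons, ← ih hl.2.2]
    by_cases h1 : x.1 = a
    · rw [if_pos h1]
      simp only [MPl, if_pos h1, evL_addL, add_mul]
      rw [Finset.sum_add_distrib, sum_termL q F r x (Tab.nat_blt.1 hl.1) (Tab.nat_blt.1 hl.2.1)]
    · rw [if_neg h1, mul_zero, zero_add]
      simp only [MPl, if_neg h1]

theorem evL_NPl {R : Type*} [CommRing R] (q : R) (a : ℕ) : ∀ l : List (ℕ × ℕ × ℕ × ℕ × ℕ),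
    evL q (NPl a l) = (l.map fun x => (x.2.2.2.2 : R) * (if x.1 = a then q ^ x.2.2.2.1 else 0)).sum := by
  intro l
  induction l with
  | nil => simp [NPl, evL]
  | cons x l ih =>
    rw [List.map_cons, List.sum_cons, ← ih]
    by_cases h1 : x.1 = a
    · rw [if_pos h1, NPl, if_pos h1, evL_addL, evL_monL]
      push_cast
      ring
    · rw [if_neg h1, mul_zero, zero_add, NPl, if_neg h1]

variable {c}

/-- the sums of the certificate -/
theorem sum_eq (hk : c.k < c.l) (hB : c.chkB = true) (hA : ∀ a < c.r, c.chkA a = true)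
    (hZ : ∀ z < c.m, c.chkZ z = true) (hR : c.chkR c.runs 0 = true) (hL : chkL c.r c.runs = true) (q : ℂ)
    (F : ℕ → ℂ) (a : ℕ) :
    ∑ z ∈ Finset.range c.m with c.cl z = a, q ^ c.ee z * opK (Tab.toWDat hk hB hA hZ) q ⟨c.k, hk⟩ (fun z => F (c.cl z)) z
      = ∑ b ∈ Finset.range c.r, evL q (c.MP a b) * F b := by
  unfold MP
  rw [sum_MPl q F c.r a c.runs hL, ← (c.sum_runs (fun a' b t e => if a' = a then q ^ e * opF q F a' b t else 0)
    c.runs 0 hR).2, Finset.sum_filter, Nat.Ico_zero_eq_range]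
  refine Finset.sum_congr rfl fun z _ => ?_
  split_ifs with h1
  · congr 1
    unfold opK opF sg
    have e1 : (Tab.toWDat hk hB hA hZ).wt z ⟨c.k, hk⟩ = (c.d z c.k : ℤ) - 8 := rfl
    have e2 : (Tab.toWDat hk hB hA hZ).nb z ⟨c.k, hk⟩ = c.nb z c.k := rfl
    rw [e1, e2]
    rcases lt_trichotomy (c.d z c.k) 8 with h2 | h2 | h2
    · have h3 : Nat.blt (c.d z c.k) 8 = true := Tab.nat_blt.2 h2
      rw [if_neg (by omega), if_pos (by omega), h3]
      simp
    · have h3 : Nat.blt (c.d z c.k) 8 = false := by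
        rw [Bool.eq_false_iff]
        intro h
        have := Tab.nat_blt.1 h
        omega
      have h4 : Nat.beq (c.d z c.k) 8 = true := Tab.nat_beq.2 h2
      rw [if_neg (by omega), if_neg (by omega), h3, h4]
      simp
    · have h3 : Nat.blt (c.d z c.k) 8 = false := by
        rw [Bool.eq_false_iff]
        intro h
        have := Tab.nat_blt.1 h
        omega
      have h4 : Nat.beq (c.d z c.k) 8 = false := by
        rw [Bool.eq_false_iff]
        intro h
        have := Tab.nat_beq.1 h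
        omega
      rw [if_pos (by omega), h3, h4]
      simp
  · rfl

theorem sum_size (hR : c.chkR c.runs 0 = true) (q : ℂ) (a : ℕ) :
    ∑ z ∈ Finset.range c.m with c.cl z = a, q ^ c.ee z = evL q (c.NP a) := by
  unfold NP
  rw [evL_NPl, ← (c.sum_runs (fun a' b t e => if a' = a then q ^ e else 0) c.runs 0 hR).2, Finset.sum_filter,
    Nat.Ico_zero_eq_range]

theorem evL_cast (q : ℚ) (l : List ℤ) : evL (q : ℂ) l = ((evL q l : ℚ) : ℂ) := by
  induction l with
  | nil => simp [evL]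
  | cons c l ih =>
    rw [evL_cons, evL_cons, ih]
    push_cast
    rfl

/-- **the hypotheses of `rat_rgd`** -/
theorem exists_eigen (hk : c.k < c.l) (hB : c.chkB = true) (hA : ∀ a < c.r, c.chkA a = true)
    (hZ : ∀ z < c.m, c.chkZ z = true) (hR : c.chkR c.runs 0 = true) (hP : c.chkP = true) {q : ℕ} (hq : 2 ≤ q) :
    ∃ θ : Fin c.r → ℚ, Function.Injective θ ∧ ∃ F : Fin c.r → ℕ → ℂ, (∀ i, ∃ a < c.r, F i a ≠ 0) ∧
      ∀ i, ∀ a < c.r, ∑ z ∈ Finset.range c.m with (Tab.toWDat hk hB hA hZ).cl z = a,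
        (q : ℂ) ^ (Tab.toWDat hk hB hA hZ).e z *
          opK (Tab.toWDat hk hB hA hZ) q ⟨c.k, hk⟩ (fun z => F i ((Tab.toWDat hk hB hA hZ).cl z)) z =
        (θ i : ℂ) * ((∑ z ∈ Finset.range c.m with (Tab.toWDat hk hB hA hZ).cl z = a,
          (q : ℂ) ^ (Tab.toWDat hk hB hA hZ).e z) * F i a) := by
  unfold chkP at hP
  simp only [Bool.and_eq_true, allN_iff, decide_eq_true_eq] at hP
  obtain ⟨hP1, hP2, hlam, hr0, hL, hth⟩ := hP
  have hr0' : 0 < c.r := Tab.nat_blt.1 hr0
  have hq0 : (0 : ℚ) ≤ (q : ℚ) := Nat.cast_nonneg q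
  have hq2 : (2 : ℚ) ≤ (q : ℚ) := by exact_mod_cast hq
  set Q : ℚ := (q : ℚ) with hQ
  have hN : ∀ a < c.r, 0 < evL Q (c.NP a) := fun a ha => pos_of_posL hq0 _ (hP1 a ha).1
  have hlam' : 0 < evL Q c.lam := pos_of_posL hq0 _ hlam
  have hC1 : ∀ a < c.r, ∀ b < c.r, evL Q (c.B a b) * evL Q (c.NP a) = evL Q c.lam * evL Q (c.MP a b) :=
    fun a ha b hb => mul_eq_mul_of Q _ _ _ _ (Tab.nat_blt.1 ((hP1 a ha).2 b hb).1) ((hP1 a ha).2 b hb).2
  have hC2 : ∀ i < c.r, ∀ b < c.r, ∑ a ∈ Finset.range c.r, evL Q (c.P i a) * evL Q (c.B a b) =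
      evL Q (c.T i) * evL Q (c.P i b) := by
    intro i hi b hb
    have h1 := (hP2 i hi).2 b hb
    rw [sumZ_eq, sumN_eq] at h1
    exact sum_mul_eq_of Q c.r (fun a => c.P i a) (fun a => c.B a b) _ _ (Tab.nat_blt.1 h1.1) h1.2
  -- the eigenvalues
  have hinc : ∀ i, i + 1 < c.r → evL Q (c.T i) < evL Q (c.T (i + 1)) := by
    intro i hi
    have h1 := hth i (by omega)
    rw [Bool.or_eq_true] at h1
    rcases h1 with h1 | h1
    · have := Tab.nat_ble.1 h1
      omega
    · exact lt_of_shL hq2 _ _ h1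
  have hmono : ∀ (n i : ℕ), i + n + 1 < c.r → evL Q (c.T i) < evL Q (c.T (i + n + 1)) := by
    intro n
    induction n with
    | zero => exact fun i hi => hinc i hi
    | succ n ih => exact fun i hi => (ih i (by omega)).trans (hinc (i + n + 1) hi)
  have hinj : Function.Injective fun i : Fin c.r => evL Q (c.T i) / evL Q c.lam := by
    have key : ∀ i j : Fin c.r, i < j → evL Q (c.T i) < evL Q (c.T j) := by
      intro i j hij
      obtain ⟨n, hn⟩ := Nat.exists_eq_add_of_lt (show i.val < j.val from hij)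
      have h1 := hmono n i.val (by rw [← hn]; exact j.2)
      rwa [← hn] at h1
    intro i j hij
    have h1 : evL Q (c.T i) = evL Q (c.T j) := by
      have h2 : evL Q (c.T i) / evL Q c.lam = evL Q (c.T j) / evL Q c.lam := hij
      rwa [div_left_inj' hlam'.ne'] at h2
    rcases lt_trichotomy i j with h2 | h2 | h2
    · exact absurd h1 (key i j h2).ne
    · exact h2
    · exact absurd h1 (key j i h2).ne'
  -- the eigenvectors
  have hex : ∀ i : Fin c.r, ∃ v : Fin c.r → ℚ, v ≠ 0 ∧ ∀ a : Fin c.r,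
      evL Q c.lam * ∑ b : Fin c.r, evL Q (c.MP a b) * v b = evL Q (c.T i) * (evL Q (c.NP a) * v a) := by
    intro i
    let S : Matrix (Fin c.r) (Fin c.r) ℚ := Matrix.of fun a b =>
      evL Q c.lam * evL Q (c.MP a b) - if a = b then evL Q (c.T i) * evL Q (c.NP a) else 0
    have h1 : ∃ v : Fin c.r → ℚ, v ≠ 0 ∧ Matrix.vecMul v S = 0 := by
      refine ⟨fun a => evL Q (c.P i a) / evL Q (c.NP a), ?_, ?_⟩
      · intro h0
        have h2 := congrFun h0 ⟨0, hr0'⟩
        have h3 : evL Q (c.P i 0) = 1 := by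
          rw [(hP2 i.val i.2).1]
          simp [evL]
        have h4 : evL Q (c.P i 0) / evL Q (c.NP 0) = 0 := h2
        rw [h3, one_div, inv_eq_zero] at h4
        exact (hN 0 hr0').ne' h4
      · funext b
        have h2 : Matrix.vecMul (fun a : Fin c.r => evL Q (c.P i a) / evL Q (c.NP a)) S b =
            ∑ a : Fin c.r, (evL Q (c.P i a) * evL Q (c.B a b) -
              if a = b then evL Q (c.T i) * evL Q (c.P i a) else 0) := by
          rw [Matrix.vecMul, dotProduct]
          refine Finset.sum_congr rfl fun a _ => ?_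
          have h3 := hC1 a.val a.2 b.val b.2
          have h4 := (hN a.val a.2).ne'
          show evL Q (c.P i a) / evL Q (c.NP a) * (evL Q c.lam * evL Q (c.MP a b) -
            if a = b then evL Q (c.T i) * evL Q (c.NP a) else 0) = _
          rw [← h3]
          split_ifs
          · field_simp
          · rw [sub_zero, sub_zero]
            field_simp
        rw [h2, Finset.sum_sub_distrib, Finset.sum_ite_eq' Finset.univ b, if_pos (Finset.mem_univ b)]
        have h3 := hC2 i.val i.2 b.val b.2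
        rw [Finset.sum_range] at h3
        rw [h3]
        exact sub_self _
    obtain ⟨v, hv, hv'⟩ := Matrix.exists_mulVec_eq_zero_iff.2 (Matrix.exists_vecMul_eq_zero_iff.1 h1)
    refine ⟨v, hv, fun a => ?_⟩
    have h2 := congrFun hv' a
    rw [Matrix.mulVec, dotProduct, Pi.zero_apply] at h2
    have h3 : ∀ b : Fin c.r, S a b * v b = evL Q c.lam * (evL Q (c.MP a b) * v b) -
        if a = b then evL Q (c.T i) * (evL Q (c.NP a) * v b) else 0 := by
      intro b
      show (evL Q c.lam * evL Q (c.MP a b) - if a = b then evL Q (c.T i) * evL Q (c.NP a) else 0) * v b = _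
      split_ifs <;> ring
    rw [Finset.sum_congr rfl fun b _ => h3 b, Finset.sum_sub_distrib, Finset.sum_ite_eq Finset.univ a,
      if_pos (Finset.mem_univ a), ← Finset.mul_sum, sub_eq_zero] at h2
    exact h2
  choose v hv hv' using hex
  refine ⟨fun i => evL Q (c.T i) / evL Q c.lam, hinj,
    fun i a => if ha : a < c.r then ((v i ⟨a, ha⟩ : ℚ) : ℂ) else 0, fun i => ?_, fun i a ha => ?_⟩
  · obtain ⟨a, ha⟩ := Function.ne_iff.1 (hv i)
    refine ⟨a.val, a.2, ?_⟩
    dsimp only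
    rw [dif_pos a.2]
    exact_mod_cast ha
  · have h1 := sum_eq hk hB hA hZ hR hL (q : ℂ) (fun a => if ha : a < c.r then ((v i ⟨a, ha⟩ : ℚ) : ℂ) else 0) a
    have h2 := sum_size hR (q : ℂ) a
    refine h1.trans ?_
    refine Eq.trans ?_ (congrArg (fun y => _ * (y * _)) h2.symm)
    dsimp only
    rw [dif_pos ha, Finset.sum_range]
    have hqc : (q : ℂ) = ((Q : ℚ) : ℂ) := by rw [hQ]; push_cast; rfl
    rw [hqc]
    simp only [evL_cast, Fin.is_lt, dite_true, Fin.eta]
    have h3 := hv' i ⟨a, ha⟩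
    have h4 : ((evL Q c.lam : ℚ) : ℂ) ≠ 0 := by exact_mod_cast hlam'.ne'
    have h5 := congrArg (fun y : ℚ => (y : ℂ)) h3
    push_cast at h5 ⊢
    apply mul_left_cancel₀ h4
    rw [h5]
    field_simp

open Cfsg CoxeterSystem Cfsg.Agent.ChevalleyStructure.CoxeterGeom Cfsg.Agent.Tits.Roots Cfsg.Agent.Tits.Core
  Cfsg.Agent.Nodes.Reps Cfsg.Agent.Nodes.BNOf Cfsg.Agent.Nodes.LeviDec Cfsg.Agent.H116 in
/-- **Rational constituents from a certificate.** -/
theorem rat_of_cert (c : Cert) (hk : c.k < c.l) (hB : c.chkB = true) (hA : ∀ a < c.r, c.chkA a = true)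
    (hZ : ∀ z < c.m, c.chkZ z = true) (hR : c.chkR c.runs 0 = true) (hP : c.chkP = true)
    {W : Type*} {Y : Type*} [Group W] [Group Y] {M : CoxeterMatrix (Fin c.l)}
    {cs : CoxeterSystem M W} {A : Fin c.l → Fin c.l → ℤ} {h : IsCartan M A} {p : ℕ} {T : Subgroup Y}
    {n : Fin c.l → Y} {X : (Fin c.l → ℤ) → Subgroup Y} [Finite W] [Finite Y] [Fintype Y] (R : RGD cs h p T n X)
    (hgen : RGD.B cs h T X ⊔ NN cs R.nsys = ⊤) {q : ℕ} (hq2 : 2 ≤ q) (hq : ∀ i, Nat.card (X (sr i)) = q)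
    (hAA : A = c.A) (χ : IrrCharacter Y)
    (hχ : classInner (HeckeD.perm Y (Y ⧸ PJ cs h T X {j | j ≠ ⟨c.k, hk⟩})) (χ : Y → ℂ) ≠ 0) (g : Y) :
    ∃ s : ℚ, (χ : Y → ℂ) g = (s : ℂ) := by
  subst hAA
  obtain ⟨θ, hθ, F, hF0, hF⟩ := exists_eigen hk hB hA hZ hR hP hq2
  exact rat_rgd R hgen hq (Tab.toWDat hk hB hA hZ) θ hθ F hF0 hF χ hχ g

end Cert

end Cfsg.Agent.H77.RK
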