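import Cfsg.Agent.Characters.Core
import Cfsg.Agent.Blocks.Basic
import Cfsg.Agent.Blocks.Local
import Cfsg.Agent.Blocks.Central

/-!
# Block linking of the constituents of a multiplicity free permutation character (helper77)

`χ` with spherical function `v` on the transitive `G`-set `X`: `χ g = χ 1 / #X * ∑ x, v x (g • x)`.

* `centralChar_sph` : the central character at `g` is `∑ y, v x₀ y * #{k ∈ g ^ G : k • x₀ = y}`;
* `sameBlock_of_sph` : if for all orbits `u` of the stabilizer of `x₀` the numbers `k_u ω_u`, `k_u ω'_u` are congruent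
  modulo `p` then the two characters are in the same block.
-/

set_option autoImplicit false
set_option linter.unusedSectionVars false

open Cfsg

namespace Cfsg.Agent.H77.RK

open Cfsg.Agent.Blocks.Basic Cfsg.Agent.Blocks.Local Cfsg.Agent.Blocks.Central

universe u v

variable {G : Type u} [Group G] [Finite G] {X : Type v} [MulAction G X]

/-- **The central character.** -/
theorem centralChar_sph [Fintype X] (x₀ : X) (htr : ∀ x : X, ∃ g : G, g • x₀ = x) {χ : G → ℂ} (hχ : χ 1 ≠ 0)
    {v : X → X → ℂ} (hv : ∀ (g : G) (x y : X), v (g • x) (g • y) = v x y)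
    (hcl : ∀ g h : G, χ (h * g * h⁻¹) = χ g)
    (hval : ∀ g : G, χ g = χ 1 / (Nat.card X : ℂ) * ∑ x, v x (g • x)) (g : G) :
    centralChar χ g = ∑ y, v x₀ y * (Nat.card {k : G // IsConj g k ∧ k • x₀ = y} : ℂ) := by
  classical
  have := Fintype.ofFinite G
  have hX : (Nat.card X : ℂ) ≠ 0 := by
    have : Nonempty X := ⟨x₀⟩
    exact_mod_cast (Nat.card_pos (α := X)).ne'
  -- the sum over the class at a point
  have h1 : ∀ x : X, ∑ k : G, (if IsConj g k then v x (k • x) else 0) = ∑ k : G, if IsConj g k then v x₀ (k • x₀) else 0 := by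
    intro x
    obtain ⟨c, rfl⟩ := htr x
    refine Fintype.sum_equiv (MulAut.conj c⁻¹).toEquiv _ _ fun k => ?_
    have e1 : (MulAut.conj c⁻¹).toEquiv k = c⁻¹ * k * c := by
      show c⁻¹ * k * c⁻¹⁻¹ = _
      rw [inv_inv]
    rw [e1]
    have e2 : IsConj g (c⁻¹ * k * c) ↔ IsConj g k := by
      have e3 : IsConj k (c⁻¹ * k * c) := isConj_iff.2 ⟨c⁻¹, by rw [inv_inv]⟩
      exact ⟨fun h => h.trans e3.symm, fun h => h.trans e3⟩
    simp only [e2]
    split_ifs
    · rw [← hv c x₀, smul_smul, smul_smul]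
      congr 2
      group
    · rfl
  have h2 := sum_classInd_mul g χ hcl
  have h3 : ∑ k : G, classInd ℂ g k * χ k = χ 1 * ∑ k : G, if IsConj g k then v x₀ (k • x₀) else 0 := by
    have h4 : ∀ k : G, classInd ℂ g k * χ k = χ 1 / (Nat.card X : ℂ) * ∑ x, if IsConj g k then v x (k • x) else 0 := by
      intro k
      rw [hval k]
      unfold classInd
      split_ifs
      · ring
      · simp
    rw [Finset.sum_congr rfl fun k _ => h4 k, ← Finset.mul_sum, Finset.sum_comm, Finset.sum_congr rfl fun x _ => h1 x,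
      Finset.sum_const, Finset.card_univ, nsmul_eq_mul, ← Nat.card_eq_fintype_card]
    field_simp
  rw [centralChar_def, ← h2, h3, mul_div_cancel_left₀ _ hχ]
  have h5 : ∀ y : X, v x₀ y * (Nat.card {k : G // IsConj g k ∧ k • x₀ = y} : ℂ) =
      ∑ k : G, if k • x₀ = y then (if IsConj g k then v x₀ (k • x₀) else 0) else 0 := by
    intro y
    rw [Nat.card_eq_fintype_card, Fintype.card_subtype, ← nsmul_eq_mul', ← Finset.sum_const, Finset.sum_filter]
    refine Finset.sum_congr rfl fun k _ => ?_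
    by_cases e1 : k • x₀ = y
    · rw [if_pos e1]
      by_cases e2 : IsConj g k
      · rw [if_pos ⟨e2, e1⟩, if_pos e2, e1]
      · rw [if_neg fun h => e2 h.1, if_neg e2]
    · rw [if_neg e1, if_neg fun h => e1 h.2]
  rw [Finset.sum_congr rfl fun y _ => h5 y, Finset.sum_comm]
  refine Finset.sum_congr rfl fun k _ => ?_
  rw [Finset.sum_ite_eq Finset.univ (k • x₀), if_pos (Finset.mem_univ _)]

/-- **Block linking.** -/
theorem sameBlock_of_sph {p : ℕ} {M : Ideal AlgInt} (hM : IsPModular p M) [Fintype X] {ι : Type*} [Fintype ι]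
    [DecidableEq ι] (x₀ : X) (htr : ∀ x : X, ∃ g : G, g • x₀ = x) {cl : X → ι}
    (hcl : ∀ x y : X, cl x = cl y → ∃ g : G, g • x₀ = x₀ ∧ g • x = y) {χ ψ : G → ℂ} (hχ : IsIrrCharacter G χ)
    (hψ : IsIrrCharacter G ψ) {v w : X → X → ℂ} (hv : ∀ (g : G) (x y : X), v (g • x) (g • y) = v x y)
    (hw : ∀ (g : G) (x y : X), w (g • x) (g • y) = w x y)
    (hvval : ∀ g : G, χ g = χ 1 / (Nat.card X : ℂ) * ∑ x, v x (g • x))
    (hwval : ∀ g : G, ψ g = ψ 1 / (Nat.card X : ℂ) * ∑ x, w x (g • x))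
    (hP : ∀ u : ι, ∃ z : ℤ, ∑ y with cl y = u, v x₀ y - ∑ y with cl y = u, w x₀ y = p * z) :
    SameBlock M χ ψ := by
  classical
  intro g
  have hMp : M.IsPrime := isPrime_of_isPModular hM
  rw [centralChar_sph x₀ htr (Characters.Core.isIrr_apply_one_ne_zero hχ) hv (Characters.Core.isIrr_isClassFunction hχ) hvval g,
    centralChar_sph x₀ htr (Characters.Core.isIrr_apply_one_ne_zero hψ) hw (Characters.Core.isIrr_isClassFunction hψ) hwval g, ← Finset.sum_sub_distrib]
  let n : X → ℕ := fun y => Nat.card {k : G // IsConj g k ∧ k • x₀ = y}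
  have hn : ∀ y y' : X, cl y = cl y' → n y = n y' := by
    intro y y' h
    obtain ⟨c, hc, hc'⟩ := hcl y y' h
    refine Nat.card_congr ((MulAut.conj c).toEquiv.subtypeEquiv fun k => ?_)
    have e1 : (MulAut.conj c).toEquiv k = c * k * c⁻¹ := rfl
    have e3 : IsConj k (c * k * c⁻¹) := isConj_iff.2 ⟨c, rfl⟩
    rw [e1]
    refine and_congr ⟨fun h => h.trans e3, fun h => h.trans e3.symm⟩ ?_
    have e4 : c⁻¹ • x₀ = x₀ := by rw [inv_smul_eq_iff, hc]
    rw [mul_smul, mul_smul, e4, ← hc', smul_left_cancel_iff]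
  have key : ∀ u : ι, MemLocalIdeal M (∑ y with cl y = u, (v x₀ y * (n y : ℂ) - w x₀ y * (n y : ℂ))) := by
    intro u
    obtain ⟨z, hz⟩ := hP u
    by_cases hu : ∃ y₀, cl y₀ = u
    · obtain ⟨y₀, hy₀⟩ := hu
      have e1 : ∑ y with cl y = u, (v x₀ y * (n y : ℂ) - w x₀ y * (n y : ℂ)) = ((p : ℂ) * z) * (n y₀ : ℂ) := by
        rw [← hz, sub_mul, Finset.sum_mul, Finset.sum_mul, ← Finset.sum_sub_distrib]
        refine Finset.sum_congr rfl fun y hy => ?_
        rw [hn y y₀ ((Finset.mem_filter.1 hy).2.trans hy₀.symm)]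
      rw [e1, mul_assoc]
      refine memLocalIdeal_mul_right (memLocalIdeal_p hM) ?_
      refine memLocalRing_of_isIntegral ?_
      exact_mod_cast isIntegral_algebraMap (R := ℤ) (A := ℂ) (x := z * (n y₀ : ℤ))
    · have e1 : (Finset.univ.filter fun y => cl y = u) = ∅ :=
        Finset.filter_eq_empty_iff.2 fun y _ hy => hu ⟨y, hy⟩
      rw [e1, Finset.sum_empty]
      exact memLocalIdeal_zero
  have h1 := memLocalIdeal_sum (M := M) (s := (Finset.univ : Finset ι)) fun u _ => key u
  rwa [Finset.sum_fiberwise] at h1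

end Cfsg.Agent.H77.RK
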