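import Cfsg.Agent.H77.RK.Rat
import Cfsg.Agent.H77.RK.Link

/-!
# The constituents of a multiplicity free permutation character (helper77)

`Dat` : an invariant matrix `A` on the transitive finite `G`-set `X` with as many different eigenvalues as there are
orbits on `X × X`, with eigenvectors `v i` fixed by the stabilizer of `x₀`, `v i x₀ = 1`.

`Dat.exists_con` : the constituents `χ i`: they are different, of multiplicity one, with
`χ i g = χ i 1 / #X * ∑ x, V i x (g • x)`, `V i x₀ = v i`, and `∑ i, χ i 1 * v i y = #X` or `0`.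
-/

set_option autoImplicit false
set_option linter.unusedSectionVars false

namespace Cfsg.Agent.H77.RK

open Cfsg Cfsg.Agent.H116.HeckeC Cfsg.Agent.H116.HeckeD Cfsg.Agent.Characters.Core Matrix Polynomial Module
open scoped ComplexConjugate

universe u

section

variable {G : Type u} [Group G] [Fintype G] {X : Type*} [Fintype X] [DecidableEq X] [MulAction G X]
  {ι : Type*} [Fintype ι] [DecidableEq ι]

/-- the data -/
structure Dat (s : ι → X × X) (A : Matrix X X ℂ) (θ : ι → ℂ) (v : ι → X → ℂ) (x₀ : X) : Prop where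
  reps : ∀ x y : X, ∃ i, ∃ g : G, g • (s i).1 = x ∧ g • (s i).2 = y
  inv : ∀ (g : G) (x y : X), A (g • x) (g • y) = A x y
  inj : Function.Injective θ
  eig : ∀ i, A *ᵥ v i = θ i • v i
  one : ∀ i, v i x₀ = 1
  fix : ∀ i (g : G), g • x₀ = x₀ → ∀ x, v i (g • x) = v i x
  tr : ∀ x : X, ∃ g : G, g • x₀ = x

namespace Dat

variable {s : ι → X × X} {A : Matrix X X ℂ} {θ : ι → ℂ} {v : ι → X → ℂ} {x₀ : X}

theorem comm_aeval (H : Dat (G := G) s A θ v x₀) (p : ℂ[X]) (g : G) : Pm X g * aeval A p = aeval A p * Pm X g := by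
  have h1 : Commute (Pm X g) A := (Pm_comm_iff g A).2 fun x y => H.inv g x y
  induction p using Polynomial.induction_on' with
  | add p q hp hq => rw [map_add, mul_add, add_mul, hp, hq]
  | monomial n a =>
    rw [aeval_monomial]
    have h2 : Commute (Pm X g) (algebraMap ℂ (Matrix X X ℂ) a) := (Algebra.commutes a (Pm X g)).symm
    exact h2.mul_right (h1.pow_right n)

theorem aeval_v (H : Dat (G := G) s A θ v x₀) (p : ℂ[X]) (i : ι) : aeval A p *ᵥ v i = p.eval (θ i) • v i := by
  induction p using Polynomial.induction_on' with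
  | add p q hp hq => rw [map_add, add_mulVec, hp, hq, eval_add, add_smul]
  | monomial n a =>
    have h2 : ∀ n : ℕ, A ^ n *ᵥ v i = θ i ^ n • v i := by
      intro n
      induction n with
      | zero => rw [pow_zero, pow_zero, one_mulVec, one_smul]
      | succ n ih => rw [pow_succ, ← mulVec_mulVec, H.eig, mulVec_smul, ih, smul_smul, pow_succ, mul_comm]
    rw [aeval_monomial, eval_monomial, ← mulVec_mulVec, h2, mulVec_smul, Algebra.algebraMap_eq_smul_one, smul_mulVec,
      one_mulVec, smul_smul, mul_comm]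

theorem v_cancel (H : Dat (G := G) s A θ v x₀) {i : ι} {a b : ℂ} (h : a • v i = b • v i) : a = b := by
  have h1 := congrFun h x₀
  rwa [Pi.smul_apply, Pi.smul_apply, H.one, smul_eq_mul, smul_eq_mul, mul_one, mul_one] at h1

/-- a matrix which commutes with the permutations is a polynomial in `A` -/
theorem exists_aeval (H : Dat (G := G) s A θ v x₀) {B : Matrix X X ℂ}
    (hB : ∀ (g : G) (x y : X), B (g • x) (g • y) = B x y) :
    ∃ p : ℂ[X], p.degree < Fintype.card ι ∧ aeval A p = B := by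
  classical
  let Ψ : degreeLT ℂ (Fintype.card ι) →ₗ[ℂ] (ι → ℂ) :=
    { toFun := fun p i => aeval A (p : ℂ[X]) (s i).1 (s i).2
      map_add' := fun p q => by
        funext i
        rw [Submodule.coe_add, map_add]
        rfl
      map_smul' := fun c p => by
        funext i
        rw [Submodule.coe_smul, map_smul]
        rfl }
  have hinj : Function.Injective Ψ := by
    rw [← LinearMap.ker_eq_bot, Submodule.eq_bot_iff]
    intro p hp
    have h1 : aeval A (p : ℂ[X]) = 0 :=
      eq_zero_of_reps s H.reps (fun g => (Pm_comm_iff g _).1 (H.comm_aeval p g)) fun i =>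
        congrFun (LinearMap.mem_ker.1 hp) i
    have h2 : ∀ i, (p : ℂ[X]).eval (θ i) = 0 := by
      intro i
      apply H.v_cancel (i := i)
      rw [← H.aeval_v, h1, zero_mulVec, zero_smul]
    apply Subtype.ext
    refine Polynomial.eq_zero_of_degree_lt_of_eval_finset_eq_zero (Finset.univ.image θ) ?_ ?_
    · rw [Finset.card_image_of_injective _ H.inj, Finset.card_univ]
      exact mem_degreeLT.1 p.2
    · intro x hx
      obtain ⟨i, -, rfl⟩ := Finset.mem_image.1 hx
      exact h2 i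
  have hfin : finrank ℂ (degreeLT ℂ (Fintype.card ι)) = finrank ℂ (ι → ℂ) := by
    rw [Module.finrank_pi, (degreeLTEquiv ℂ (Fintype.card ι)).finrank_eq, Module.finrank_pi, Fintype.card_fin]
  have hfd : FiniteDimensional ℂ (degreeLT ℂ (Fintype.card ι)) :=
    Module.Finite.equiv (degreeLTEquiv ℂ (Fintype.card ι)).symm
  obtain ⟨p, hp⟩ := (LinearMap.injective_iff_surjective_of_finrank_eq_finrank hfin).1 hinj
    (fun i => B (s i).1 (s i).2)
  refine ⟨p, mem_degreeLT.1 p.2, ?_⟩
  rw [← sub_eq_zero]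
  refine eq_zero_of_reps (G := G) s H.reps (fun g x y => ?_) fun i => ?_
  · rw [Matrix.sub_apply, Matrix.sub_apply, hB, (Pm_comm_iff g _).1 (H.comm_aeval p g)]
  · rw [Matrix.sub_apply, ← congrFun hp i]
    exact sub_self _

/-- the matrices which commute with the permutations -/
def Cm (G : Type u) [Group G] [MulAction G X] (B : Matrix X X ℂ) : Prop := ∀ g : G, Pm X g * B = B * Pm X g

theorem Cm.mul {B C : Matrix X X ℂ} (hB : Cm G B) (hC : Cm G C) : Cm G (B * C) := fun g => by
  rw [← mul_assoc, hB g, mul_assoc, hC g, mul_assoc]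

theorem Cm.sub {B C : Matrix X X ℂ} (hB : Cm G B) (hC : Cm G C) : Cm G (B - C) := fun g => by
  rw [mul_sub, sub_mul, hB g, hC g]

theorem Cm.smul {B : Matrix X X ℂ} (hB : Cm G B) (c : ℂ) : Cm G (c • B) := fun g => by
  rw [mul_smul_comm, smul_mul_assoc, hB g]

theorem Cm.sum {κ : Type*} (t : Finset κ) {B : κ → Matrix X X ℂ} (hB : ∀ k ∈ t, Cm G (B k)) : Cm G (∑ k ∈ t, B k) :=
  fun g => by rw [Finset.mul_sum, Finset.sum_mul]; exact Finset.sum_congr rfl fun k hk => hB k hk g

theorem Cm.one : Cm G (1 : Matrix X X ℂ) := fun g => by rw [mul_one, one_mul]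

theorem exists_eig (H : Dat (G := G) s A θ v x₀) {B : Matrix X X ℂ} (hB : Cm G B) :
    ∃ l : ι → ℂ, ∀ i, B *ᵥ v i = l i • v i := by
  obtain ⟨p, -, rfl⟩ := H.exists_aeval fun g => (Pm_comm_iff g B).1 (hB g)
  exact ⟨fun i => p.eval (θ i), fun i => H.aeval_v p i⟩

theorem uniq (H : Dat (G := G) s A θ v x₀) {B : Matrix X X ℂ} (hB : Cm G B) (h : ∀ i, B *ᵥ v i = 0) : B = 0 := by
  classical
  obtain ⟨p, hp, rfl⟩ := H.exists_aeval fun g => (Pm_comm_iff g B).1 (hB g)
  have h2 : p = 0 := by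
    refine Polynomial.eq_zero_of_degree_lt_of_eval_finset_eq_zero (Finset.univ.image θ) ?_ ?_
    · rw [Finset.card_image_of_injective _ H.inj, Finset.card_univ]
      exact hp
    · intro x hx
      obtain ⟨i, -, rfl⟩ := Finset.mem_image.1 hx
      apply H.v_cancel (i := i)
      rw [← H.aeval_v, h, zero_smul]
  rw [h2, map_zero]

theorem ext (H : Dat (G := G) s A θ v x₀) {B C : Matrix X X ℂ} (hB : Cm G B) (hC : Cm G C)
    (h : ∀ i, B *ᵥ v i = C *ᵥ v i) : B = C := by
  rw [← sub_eq_zero]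
  refine H.uniq (hB.sub hC) fun i => ?_
  rw [sub_mulVec, h, sub_self]

theorem comm (H : Dat (G := G) s A θ v x₀) {B C : Matrix X X ℂ} (hB : Cm G B) (hC : Cm G C) : B * C = C * B := by
  obtain ⟨l, hl⟩ := H.exists_eig hB
  obtain ⟨m, hm⟩ := H.exists_eig hC
  refine H.ext (hB.mul hC) (hC.mul hB) fun i => ?_
  rw [← mulVec_mulVec, ← mulVec_mulVec, hl, hm, mulVec_smul, mulVec_smul, hl, hm, smul_smul, smul_smul, mul_comm]

/-- the idempotents -/
noncomputable def E (A : Matrix X X ℂ) (θ : ι → ℂ) (i : ι) : Matrix X X ℂ :=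
  aeval A (Lagrange.basis Finset.univ θ i)

theorem E_cm (H : Dat (G := G) s A θ v x₀) (i : ι) : Cm G (E A θ i) := fun g => H.comm_aeval _ g

theorem E_self (H : Dat (G := G) s A θ v x₀) (i : ι) : E A θ i *ᵥ v i = v i := by
  unfold E
  rw [H.aeval_v, Lagrange.eval_basis_self H.inj.injOn (Finset.mem_univ i), one_smul]

theorem E_ne (H : Dat (G := G) s A θ v x₀) {i j : ι} (h : i ≠ j) : E A θ i *ᵥ v j = 0 := by
  unfold E
  rw [H.aeval_v, Lagrange.eval_basis_of_ne h (Finset.mem_univ j), zero_smul]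

theorem E_mul_self (H : Dat (G := G) s A θ v x₀) (i : ι) : E A θ i * E A θ i = E A θ i := by
  refine H.ext ((H.E_cm i).mul (H.E_cm i)) (H.E_cm i) fun j => ?_
  rw [← mulVec_mulVec]
  by_cases h : i = j
  · subst h
    rw [H.E_self, H.E_self]
  · rw [H.E_ne h, mulVec_zero]

theorem E_mul_ne (H : Dat (G := G) s A θ v x₀) {i j : ι} (hij : i ≠ j) : E A θ i * E A θ j = 0 := by
  refine H.uniq ((H.E_cm i).mul (H.E_cm j)) fun k => ?_
  rw [← mulVec_mulVec]
  by_cases h : j = k
  · subst h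
    rw [H.E_self, H.E_ne hij]
  · rw [H.E_ne h, mulVec_zero]

theorem sum_E (H : Dat (G := G) s A θ v x₀) : ∑ i, E A θ i = 1 := by
  refine H.ext (Cm.sum _ fun i _ => H.E_cm i) Cm.one fun j => ?_
  have h1 : (∑ i, E A θ i) *ᵥ v j = ∑ i, E A θ i *ᵥ v j := by
    ext x
    simp only [mulVec, dotProduct, Matrix.sum_apply, Finset.sum_apply, Finset.sum_mul]
    rw [Finset.sum_comm]
  rw [h1, one_mulVec, Finset.sum_eq_single j (fun i _ h => H.E_ne h) fun h => absurd (Finset.mem_univ _) h, H.E_self]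

/-- the function on pairs -/
noncomputable def V (H : Dat (G := G) s A θ v x₀) (i : ι) (x y : X) : ℂ := v i ((Classical.choose (H.tr x))⁻¹ • y)

theorem V_smul (H : Dat (G := G) s A θ v x₀) (i : ι) (g : G) (y : X) : H.V i (g • x₀) y = v i (g⁻¹ • y) := by
  unfold V
  have h1 := Classical.choose_spec (H.tr (g • x₀))
  have h2 := H.fix i (g⁻¹ * Classical.choose (H.tr (g • x₀))) (by rw [mul_smul, h1, inv_smul_smul])
    ((Classical.choose (H.tr (g • x₀)))⁻¹ • y)
  rw [← h2, smul_smul]
  congr 2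
  group

theorem V_base (H : Dat (G := G) s A θ v x₀) (i : ι) (y : X) : H.V i x₀ y = v i y := by
  have h1 := H.V_smul i 1 y
  rwa [one_smul, inv_one, one_smul] at h1

theorem V_inv (H : Dat (G := G) s A θ v x₀) (i : ι) (g : G) (x y : X) : H.V i (g • x) (g • y) = H.V i x y := by
  obtain ⟨h, rfl⟩ := H.tr x
  rw [smul_smul, H.V_smul, H.V_smul, _root_.mul_inv_rev, smul_smul, mul_assoc, inv_mul_cancel, mul_one]

theorem V_self (H : Dat (G := G) s A θ v x₀) (i : ι) (x : X) : H.V i x x = 1 := by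
  obtain ⟨h, rfl⟩ := H.tr x
  rw [H.V_smul, inv_smul_smul, H.one]

/-- the idempotent is a multiple of the matrix of `V` -/
theorem exists_E_eq (H : Dat (G := G) s A θ v x₀) (i : ι) : ∃ c : ℂ, c ≠ 0 ∧ ∀ x y, E A θ i x y = c * H.V i y x := by
  classical
  set B : Matrix X X ℂ := fun x y => H.V i y x with hBdef
  have hB : Cm G B := fun g => (Pm_comm_iff g B).2 fun x y => H.V_inv i g y x
  obtain ⟨l, hl⟩ := H.exists_eig hB
  have hAc : Cm G A := fun g => (Pm_comm_iff g A).2 fun x y => H.inv g x y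
  have hAB : A * B = θ i • B := by
    ext x y
    obtain ⟨g, rfl⟩ := H.tr y
    rw [mul_apply, Matrix.smul_apply, smul_eq_mul]
    show ∑ z, A x z * H.V i (g • x₀) z = θ i * H.V i (g • x₀) x
    simp only [H.V_smul]
    have h1 := congrFun (H.eig i) (g⁻¹ • x)
    rw [Pi.smul_apply, smul_eq_mul, mulVec, dotProduct] at h1
    rw [← h1]
    refine Fintype.sum_equiv (MulAction.toPerm g⁻¹) _ _ fun z => ?_
    rw [MulAction.toPerm_apply, H.inv]
  have hl0 : ∀ j, j ≠ i → l j = 0 := by
    intro j hj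
    have h1 : (A * B) *ᵥ v j = (θ i • B) *ᵥ v j := by rw [hAB]
    rw [← mulVec_mulVec, hl, mulVec_smul, H.eig, smul_mulVec, hl, smul_smul, smul_smul] at h1
    have h2 := H.v_cancel h1
    have h3 : (θ j - θ i) * l j = 0 := by linear_combination h2
    rcases mul_eq_zero.1 h3 with h4 | h4
    · exact absurd (H.inj (sub_eq_zero.1 h4)) hj
    · exact h4
  have hBE : B = l i • E A θ i := by
    refine H.ext hB ((H.E_cm i).smul _) fun j => ?_
    rw [hl, smul_mulVec]
    by_cases h : i = j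
    · subst h
      rw [H.E_self]
    · rw [hl0 j fun e => h e.symm, zero_smul, H.E_ne h, smul_zero]
  have hli : l i ≠ 0 := by
    intro h0
    have h1 : B x₀ x₀ = 0 := by rw [hBE, h0, zero_smul]; rfl
    have h2 : B x₀ x₀ = 1 := H.V_self i x₀
    rw [h2] at h1
    exact one_ne_zero h1
  refine ⟨(l i)⁻¹, inv_ne_zero hli, fun x y => ?_⟩
  have h1 : H.V i y x = B x y := rfl
  rw [h1, hBE, Matrix.smul_apply, smul_eq_mul, ← mul_assoc, inv_mul_cancel₀ hli, one_mul]

theorem trace_E_ne (H : Dat (G := G) s A θ v x₀) (i : ι) : trace (E A θ i) ≠ 0 := by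
  obtain ⟨c, hc, h⟩ := H.exists_E_eq i
  unfold trace
  simp only [diag_apply, h, H.V_self, mul_one]
  rw [Finset.sum_const, Finset.card_univ, nsmul_eq_mul]
  have : Nonempty X := ⟨x₀⟩
  exact mul_ne_zero (by exact_mod_cast Fintype.card_ne_zero) hc

/-- the average -/
noncomputable def Cas (G : Type u) [Group G] [Fintype G] [MulAction G X] (M : Matrix X X ℂ) : Matrix X X ℂ :=
  ∑ g : G, Pm X g * M * Pm X g⁻¹

theorem Cas_cm (M : Matrix X X ℂ) : Cm G (Cas G M) := by
  intro h
  unfold Cas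
  rw [Finset.mul_sum, Finset.sum_mul]
  refine Fintype.sum_equiv (Equiv.mulLeft h) _ _ fun g => ?_
  show Pm X h * (Pm X g * M * Pm X g⁻¹) = Pm X (h * g) * M * Pm X (h * g)⁻¹ * Pm X h
  rw [mul_assoc (Pm X (h * g) * M), ← Pm_mul, _root_.mul_inv_rev, mul_assoc g⁻¹, inv_mul_cancel, mul_one, Pm_mul]
  simp only [mul_assoc]

theorem mul_single_mul (P Q : Matrix X X ℂ) (y u x w : X) :
    (P * Matrix.single y u (1 : ℂ) * Q : Matrix X X ℂ) x w = P x y * Q u w := by
  rw [Matrix.mul_apply, Finset.sum_eq_single u]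
  · rw [Matrix.mul_single_apply_same, mul_one]
  · intro z _ hz
    rw [Matrix.mul_single_apply_of_ne _ _ _ _ _ hz, zero_mul]
  · intro h
    exact absurd (Finset.mem_univ _) h

theorem mul_Cas_mul (_ : Dat (G := G) s A θ v x₀) (i j : ι) (y u x w : X) :
    ∑ g : G, (E A θ i * Pm X g : Matrix X X ℂ) x y * (Pm X g⁻¹ * E A θ j : Matrix X X ℂ) u w =
      (E A θ i * Cas G (Matrix.single y u 1) * E A θ j : Matrix X X ℂ) x w := by
  unfold Cas
  rw [Finset.mul_sum, Finset.sum_mul, Matrix.sum_apply]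
  refine Finset.sum_congr rfl fun g _ => ?_
  have h1 : E A θ i * (Pm X g * Matrix.single y u (1 : ℂ) * Pm X g⁻¹) * E A θ j =
      (E A θ i * Pm X g) * Matrix.single y u 1 * (Pm X g⁻¹ * E A θ j) := by simp only [mul_assoc]
  rw [h1, mul_single_mul]

/-- orthogonality -/
theorem orth (H : Dat (G := G) s A θ v x₀) (i j : ι) :
    ∑ g : G, Tr X (E A θ i) g * Tr X (E A θ j) g⁻¹ = if i = j then (Fintype.card G : ℂ) else 0 := by
  classical
  have h1 : ∑ g : G, Tr X (E A θ i) g * Tr X (E A θ j) g⁻¹ =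
      ∑ x, ∑ u, (E A θ i * Cas G (Matrix.single x u 1) * E A θ j : Matrix X X ℂ) x u := by
    have h2 : ∀ g : G, Tr X (E A θ i) g * Tr X (E A θ j) g⁻¹ =
        ∑ x, ∑ u, (E A θ i * Pm X g : Matrix X X ℂ) x x * (Pm X g⁻¹ * E A θ j : Matrix X X ℂ) u u := by
      intro g
      rw [Tr_apply, Tr_apply, trace_mul_comm (E A θ j), ← Finset.sum_mul_sum]
      rfl
    rw [Finset.sum_congr rfl fun g _ => h2 g, Finset.sum_comm]
    refine Finset.sum_congr rfl fun x _ => ?_
    rw [Finset.sum_comm]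
    exact Finset.sum_congr rfl fun u _ => H.mul_Cas_mul i j x u x u
  rw [h1]
  split_ifs with hij
  · subst hij
    -- the eigenvalue
    have h2 : ∀ x u : X, ∃ l : ℂ, l * trace (E A θ i) = (Fintype.card G : ℂ) * E A θ i u x ∧
        E A θ i * Cas G (Matrix.single x u 1) * E A θ i = l • E A θ i := by
      intro x u
      obtain ⟨l, hl⟩ := H.exists_eig (Cas_cm (G := G) (Matrix.single x u (1 : ℂ)))
      have h3 : Cas G (Matrix.single x u (1 : ℂ)) * E A θ i = l i • E A θ i := by
        refine H.ext ((Cas_cm _).mul (H.E_cm i)) ((H.E_cm i).smul _) fun j => ?_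
        rw [← mulVec_mulVec, smul_mulVec]
        by_cases h : i = j
        · subst h
          rw [H.E_self, hl]
        · rw [H.E_ne h, mulVec_zero, smul_zero]
      refine ⟨l i, ?_, ?_⟩
      · have h4 : trace (Cas G (Matrix.single x u (1 : ℂ)) * E A θ i) = l i * trace (E A θ i) := by
          rw [h3, trace_smul, smul_eq_mul]
        rw [← h4]
        unfold Cas
        rw [Finset.sum_mul, trace_sum]
        have h5 : ∀ g : G, trace (Pm X g * Matrix.single x u (1 : ℂ) * Pm X g⁻¹ * E A θ i) = E A θ i u x := by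
          intro g
          rw [mul_assoc, mul_assoc, trace_mul_comm, mul_assoc, mul_assoc, ← H.E_cm i g, ← mul_assoc (Pm X g⁻¹),
            ← Pm_mul, inv_mul_cancel, Pm_one, one_mul]
          unfold trace
          simp only [diag_apply]
          rw [Finset.sum_eq_single x]
          · rw [Matrix.single_mul_apply_same, one_mul]
          · intro z _ hz
            rw [Matrix.single_mul_apply_of_ne _ _ _ _ _ hz]
          · intro h
            exact absurd (Finset.mem_univ _) h
        rw [Finset.sum_congr rfl fun g _ => h5 g, Finset.sum_const, Finset.card_univ, nsmul_eq_mul]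
      · rw [mul_assoc, h3, mul_smul_comm, H.E_mul_self]
    choose l hl hl' using h2
    simp only [hl']
    have ht := H.trace_E_ne i
    apply mul_right_cancel₀ ht
    rw [Finset.sum_mul]
    have h3 : ∀ x, (∑ u, (l x u • E A θ i : Matrix X X ℂ) x u) * trace (E A θ i) =
        (Fintype.card G : ℂ) * (E A θ i * E A θ i : Matrix X X ℂ) x x := by
      intro x
      rw [Matrix.mul_apply, Finset.sum_mul, Finset.mul_sum]
      refine Finset.sum_congr rfl fun u _ => ?_
      rw [Matrix.smul_apply, smul_eq_mul]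
      linear_combination E A θ i x u * hl x u
    rw [Finset.sum_congr rfl fun x _ => h3 x, ← Finset.mul_sum, H.E_mul_self]
    rfl
  · refine Finset.sum_eq_zero fun x _ => Finset.sum_eq_zero fun u _ => ?_
    rw [mul_assoc, H.comm (Cas_cm _) (H.E_cm j), ← mul_assoc, H.E_mul_ne hij, zero_mul]
    rfl

theorem isClassFunction_Tr (H : Dat (G := G) s A θ v x₀) (i : ι) : IsClassFunction G (Tr X (E A θ i)) := fun g h =>
  Tr_classFun (fun k => H.E_cm i k) g h

/-- the trace is a multiple of an irreducible character -/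
theorem exists_irr (H : Dat (G := G) s A θ v x₀) (i : ι) :
    ∃ (χ : IrrCharacter G) (a : ℂ), ∀ g, Tr X (E A θ i) g = a * (χ : G → ℂ) g := by
  have h1 : Tr (G := G) X (E A θ i) ≠ 0 := by
    intro h0
    have h2 := congrFun h0 1
    rw [Tr_apply, Pm_one, mul_one] at h2
    exact H.trace_E_ne i h2
  obtain ⟨ψ, hψ, hne⟩ : ∃ ψ : G → ℂ, IsIrrCharacter G ψ ∧ classInner (Tr X (E A θ i)) ψ ≠ 0 := by
    by_contra hcon
    push Not at hcon
    exact h1 (classFunction_eq_zero (H.isClassFunction_Tr i) hcon)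
  have hcm : Cm G (Ph X ψ) := fun g => Ph_comm (isIrr_isClassFunction hψ) g
  obtain ⟨l, hl⟩ := H.exists_eig hcm
  have h3 : Ph X ψ * E A θ i = l i • E A θ i := by
    refine H.ext (hcm.mul (H.E_cm i)) ((H.E_cm i).smul _) fun j => ?_
    rw [← mulVec_mulVec, smul_mulVec]
    by_cases h : i = j
    · subst h
      rw [H.E_self, hl]
    · rw [H.E_ne h, mulVec_zero, smul_zero]
  have h4 : ∀ y : G, l i * Tr X (E A θ i) y =
      (∑ z : G, Tr X (E A θ i) z * conj (ψ z)) / ψ 1 * ψ y := by
    intro y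
    rw [← Classification.TypeZIV.Parity.sum_conv (H.isClassFunction_Tr i) hψ y]
    have h5 : l i * Tr X (E A θ i) y = Tr X (Ph X ψ * E A θ i) y := by
      rw [h3, map_smul, Pi.smul_apply, smul_eq_mul]
    rw [h5, Tr_apply, Ph_apply, Finset.sum_mul, Finset.sum_mul, trace_sum]
    refine Fintype.sum_equiv (Equiv.inv G) _ _ fun g => ?_
    rw [Equiv.inv_apply, ← isCharacter_apply_inv (isIrr_isCharacter hψ), inv_inv, smul_mul_assoc, smul_mul_assoc, trace_smul,
      smul_eq_mul, mul_comm (ψ g), Tr_apply, Pm_mul, mul_assoc, trace_mul_comm, mul_assoc]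
  have hS : (∑ z : G, Tr X (E A θ i) z * conj (ψ z)) ≠ 0 := by
    intro h0
    apply hne
    rw [classInner_def, h0, mul_zero]
  have hψ1 : ψ 1 ≠ 0 := isIrr_apply_one_ne_zero hψ
  have hli : l i ≠ 0 := by
    intro h0
    have h5 := h4 1
    rw [h0, zero_mul, div_mul_cancel₀ _ hψ1] at h5
    exact hS h5.symm
  refine ⟨⟨ψ, hψ⟩, (l i)⁻¹ * ((∑ z : G, Tr X (E A θ i) z * conj (ψ z)) / ψ 1), fun g => ?_⟩
  rw [mul_assoc, ← h4, ← mul_assoc, inv_mul_cancel₀ hli, one_mul]

/-- **The constituents.** -/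
theorem exists_con (H : Dat (G := G) s A θ v x₀) : ∃ χ : ι → IrrCharacter G, Function.Injective χ ∧
    (∀ i g, (χ i : G → ℂ) g = Tr X (E A θ i) g) ∧ (∀ i, classInner (perm G X) (χ i : G → ℂ) = 1) ∧
    ∀ ψ : IrrCharacter G, classInner (perm G X) (ψ : G → ℂ) ≠ 0 → ∃ i, χ i = ψ := by
  classical
  choose χ a ha using H.exists_irr
  have hG : (Fintype.card G : ℂ) ≠ 0 := by exact_mod_cast Fintype.card_ne_zero
  have horth : ∀ i j, a i * a j * classInner (χ i : G → ℂ) (χ j : G → ℂ) = if i = j then 1 else 0 := by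
    intro i j
    have h1 := H.orth i j
    have h2 : ∑ g : G, Tr X (E A θ i) g * Tr X (E A θ j) g⁻¹ =
        (Fintype.card G : ℂ) * (a i * a j * classInner (χ i : G → ℂ) (χ j : G → ℂ)) := by
      rw [classInner_def, Nat.card_eq_fintype_card]
      have h3 : (Fintype.card G : ℂ) * (a i * a j * ((Fintype.card G : ℂ)⁻¹ *
          ∑ g : G, (χ i : G → ℂ) g * conj ((χ j : G → ℂ) g))) =
          a i * a j * ∑ g : G, (χ i : G → ℂ) g * conj ((χ j : G → ℂ) g) := by field_simp
      rw [h3, Finset.mul_sum]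
      refine Finset.sum_congr rfl fun g _ => ?_
      rw [ha, ha, isCharacter_apply_inv (isIrr_isCharacter (χ j).2)]
      ring
    rw [h2] at h1
    apply mul_left_cancel₀ hG
    rw [h1]
    split_ifs <;> simp
  have hinj : Function.Injective χ := by
    intro i j hij
    by_contra hne
    have h1 := horth i j
    rw [if_neg hne, hij, classInner_irr_self (χ j).2, mul_one] at h1
    have h2 := horth i i
    have h3 := horth j j
    rw [if_pos rfl, classInner_irr_self (χ i).2, mul_one] at h2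
    rw [if_pos rfl, classInner_irr_self (χ j).2, mul_one] at h3
    rcases mul_eq_zero.1 h1 with h4 | h4
    · rw [h4, zero_mul] at h2
      exact zero_ne_one h2
    · rw [h4, zero_mul] at h3
      exact zero_ne_one h3
  have hperm : perm G X = ∑ i, a i • (χ i : G → ℂ) := by
    funext g
    have h1 : perm G X g = Tr X (1 : Matrix X X ℂ) g := by
      rw [Tr_apply, one_mul, trace_Pm]
      rfl
    rw [h1, ← H.sum_E, map_sum, Finset.sum_apply, Finset.sum_apply]
    exact Finset.sum_congr rfl fun i _ => ha i g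
  have hmult : ∀ ψ : IrrCharacter G, classInner (perm G X) (ψ : G → ℂ) =
      ∑ i, a i * classInner (χ i : G → ℂ) (ψ : G → ℂ) := by
    intro ψ
    rw [hperm, classInner_sum_left]
    exact Finset.sum_congr rfl fun i _ => classInner_smul_left _ _ _
  have hmi : ∀ i, classInner (perm G X) (χ i : G → ℂ) = a i := by
    intro i
    rw [hmult, Finset.sum_eq_single i, classInner_irr_self (χ i).2, mul_one]
    · intro j _ hj
      rw [classInner_irr_ne (χ j).2 (χ i).2 fun h => hj (hinj (Subtype.ext h)), mul_zero]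
    · intro h
      exact absurd (Finset.mem_univ _) h
  have ha1 : ∀ i, a i = 1 := by
    intro i
    obtain ⟨n, hn⟩ := classInner_isNat (isCharacter_perm (G := G) X) (isIrr_isCharacter (χ i).2)
    rw [hmi] at hn
    have h1 := horth i i
    rw [if_pos rfl, classInner_irr_self (χ i).2, mul_one, hn] at h1
    have h2 : n * n = 1 := by exact_mod_cast h1
    rw [hn, Nat.eq_one_of_mul_eq_one_left h2]
    exact Nat.cast_one
  refine ⟨χ, hinj, fun i g => ?_, fun i => ?_, fun ψ hψ => ?_⟩
  · rw [ha, ha1, one_mul]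
  · rw [hmi, ha1]
  · by_contra hcon
    push Not at hcon
    apply hψ
    rw [hmult]
    refine Finset.sum_eq_zero fun i _ => ?_
    rw [classInner_irr_ne (χ i).2 ψ.2 fun h => hcon i (Subtype.ext h), mul_zero]

/-- **The constituents**, with spherical functions, for rational eigenvectors. -/
theorem exists_con_rat (H : Dat (G := G) s A θ v x₀) (hv : ∀ i x, ∃ r : ℚ, v i x = r) :
    ∃ χ : ι → IrrCharacter G, Function.Injective χ ∧ (∀ i g, ∃ r : ℚ, (χ i : G → ℂ) g = r) ∧
    (∀ i, classInner (perm G X) (χ i : G → ℂ) = 1) ∧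
    (∀ ψ : IrrCharacter G, classInner (perm G X) (ψ : G → ℂ) ≠ 0 → ∃ i, χ i = ψ) ∧
    (∀ i g, (χ i : G → ℂ) g = (χ i : G → ℂ) 1 / (Nat.card X : ℂ) * ∑ x, H.V i x (g • x)) ∧
    ∀ y, ∑ i, (χ i : G → ℂ) 1 * v i y = if y = x₀ then (Nat.card X : ℂ) else 0 := by
  obtain ⟨χ, h1, h2, h3, h4⟩ := H.exists_con
  have hX : (Nat.card X : ℂ) ≠ 0 := by
    have : Nonempty X := ⟨x₀⟩
    exact_mod_cast (Nat.card_pos (α := X)).ne'
  choose c hc0 hc using H.exists_E_eq
  have hone : ∀ i, (χ i : G → ℂ) 1 = (Nat.card X : ℂ) * c i := by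
    intro i
    rw [h2, Tr_apply, Pm_one, mul_one]
    unfold trace
    simp only [diag_apply, hc, H.V_self, mul_one]
    rw [Finset.sum_const, Finset.card_univ, nsmul_eq_mul, Nat.card_eq_fintype_card]
  have hci : ∀ i, c i = (χ i : G → ℂ) 1 / (Nat.card X : ℂ) := by
    intro i
    rw [hone, mul_comm, mul_div_assoc, div_self hX, mul_one]
  have hVr : ∀ i x y, ∃ r : ℚ, H.V i x y = r := fun i x y => hv i _
  choose w hw using hVr
  have hval : ∀ i g, (χ i : G → ℂ) g⁻¹ = (χ i : G → ℂ) 1 / (Nat.card X : ℂ) * ∑ x, H.V i x (g • x) := by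
    intro i g
    rw [h2, Tr_apply, ← hci]
    unfold trace
    simp only [diag_apply, mul_Pm_apply, hc]
    rw [← Finset.mul_sum]
    congr 1
    refine Fintype.sum_equiv (MulAction.toPerm g⁻¹) _ _ fun x => ?_
    rw [MulAction.toPerm_apply, smul_inv_smul]
  have hrat : ∀ i g, ∃ r : ℚ, (χ i : G → ℂ) g = r := by
    intro i g
    obtain ⟨n, -, hn1⟩ := isIrr_apply_one (χ i).2
    refine ⟨n / Nat.card X * ∑ x, w i x (g⁻¹ • x), ?_⟩
    have h5 := hval i g⁻¹
    rw [inv_inv] at h5
    rw [h5, hn1]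
    push_cast
    simp only [hw]
  refine ⟨χ, h1, hrat, h3, h4, fun i g => ?_, fun y => ?_⟩
  · rw [← hval, isCharacter_apply_inv (isIrr_isCharacter (χ i).2)]
    obtain ⟨r, hr⟩ := hrat i g
    rw [hr, map_ratCast]
  · have h5 := congrFun (congrFun H.sum_E y) x₀
    rw [Matrix.sum_apply, Matrix.one_apply] at h5
    simp only [hc, hci, H.V_base] at h5
    have h6 : ∑ i, (χ i : G → ℂ) 1 * v i y = (Nat.card X : ℂ) * ∑ i, (χ i : G → ℂ) 1 / (Nat.card X : ℂ) * v i y := by
      rw [Finset.mul_sum]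
      refine Finset.sum_congr rfl fun i _ => ?_
      field_simp
    rw [h6, h5]
    split_ifs <;> simp

/-- **Block linking** of the constituents -/
theorem sameBlock (H : Dat (G := G) s A θ v x₀) {p : ℕ} {M : Ideal AlgInt} (hM : IsPModular p M) {κ : Type*} [Fintype κ]
    [DecidableEq κ] {cl : X → κ} (hcl : ∀ x y : X, cl x = cl y → ∃ g : G, g • x₀ = x₀ ∧ g • x = y) {i j : ι}
    {χ ψ : G → ℂ} (hχ : IsIrrCharacter G χ) (hψ : IsIrrCharacter G ψ)
    (hvχ : ∀ g, χ g = χ 1 / (Nat.card X : ℂ) * ∑ x, H.V i x (g • x))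
    (hvψ : ∀ g, ψ g = ψ 1 / (Nat.card X : ℂ) * ∑ x, H.V j x (g • x))
    (hP : ∀ u : κ, ∃ z : ℤ, ∑ y with cl y = u, v i y - ∑ y with cl y = u, v j y = p * z) : SameBlock M χ ψ := by
  refine sameBlock_of_sph hM x₀ H.tr hcl hχ hψ (H.V_inv i) (H.V_inv j) hvχ hvψ fun u => ?_
  obtain ⟨z, hz⟩ := hP u
  refine ⟨z, ?_⟩
  rw [← hz]
  simp only [H.V_base]

end Dat

end

end Cfsg.Agent.H77.RK
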