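import Cfsg.Agent.H77.RK.Cst
import Cfsg.Agent.H77.RK.Bld

/-!
# Constituents from left eigenvectors (helper77)

`exists_of_left` : the fibred set `π : C → X` with a symmetric relation `T` on `C`; `α` the matrix of the neighbour
operator on the classes (orbits of the stabilizer of `x₀`), `P i` left eigenvectors of `α` with different eigenvalues,
`P i (cl x₀) = 1`: the constituents of the permutation character of `X`, with degrees and block linking.
-/

set_option autoImplicit false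
set_option linter.unusedSectionVars false

namespace Cfsg.Agent.H77.RK

open Cfsg Cfsg.Agent.H116.HeckeC Cfsg.Agent.H116.HeckeD Cfsg.Agent.Characters.Core Matrix Polynomial Module
open scoped ComplexConjugate
open Cfsg.Agent.Blocks.Basic Cfsg.Agent.Blocks.Local Cfsg.Agent.Blocks.Central

universe u

section

variable {G : Type u} [Group G] [Fintype G] {X : Type*} [Fintype X] [DecidableEq X] [MulAction G X]

/-- linear independence of the spherical functions -/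
theorem Dat.lin {ι : Type*} [Fintype ι] [DecidableEq ι] {s : ι → X × X} {A : Matrix X X ℂ} {θ : ι → ℂ} {v : ι → X → ℂ}
    {x₀ : X} (H : Dat (G := G) s A θ v x₀) {δ : ι → ℂ} (h : ∀ y, ∑ i, δ i * v i y = 0) (j : ι) : δ j = 0 := by
  have h1 : ∑ i, δ i • v i = 0 := by
    funext y
    rw [Finset.sum_apply]
    exact h y
  have h2 : Dat.E A θ j *ᵥ ∑ i, δ i • v i = δ j • v j := by
    rw [mulVec_sum, Finset.sum_eq_single j]
    · rw [mulVec_smul, H.E_self]
    · intro i _ hi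
      rw [mulVec_smul, H.E_ne hi.symm, smul_zero]
    · intro h
      exact absurd (Finset.mem_univ _) h
  rw [h1, mulVec_zero] at h2
  have h3 := congrFun h2.symm x₀
  rwa [Pi.smul_apply, H.one, smul_eq_mul, mul_one] at h3

section

variable {C : Type*} [Fintype C] [MulAction G C]

open scoped Classical in
/-- the number of related pairs over `(x, y)` -/
noncomputable def mm (π : C → X) (T : C → C → Prop) (x y : X) : ℂ :=
  ∑ c, ∑ d, if π c = x ∧ π d = y ∧ T c d then 1 else 0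

theorem mm_symm (π : C → X) {T : C → C → Prop} (hT : ∀ c d, T c d → T d c) (x y : X) : mm π T x y = mm π T y x := by
  classical
  unfold mm
  rw [Finset.sum_comm]
  refine Finset.sum_congr rfl fun c _ => Finset.sum_congr rfl fun d _ => ?_
  exact if_congr ⟨fun h => ⟨h.2.1, h.1, hT _ _ h.2.2⟩, fun h => ⟨h.2.1, h.1, hT _ _ h.2.2⟩⟩ rfl rfl

theorem mm_inv (π : C → X) (hπ : ∀ (g : G) (c : C), π (g • c) = g • π c) {T : C → C → Prop}
    (hT : ∀ (g : G) (c d : C), T (g • c) (g • d) ↔ T c d) (g : G) (x y : X) : mm π T (g • x) (g • y) = mm π T x y := by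
  classical
  unfold mm
  symm
  refine Fintype.sum_equiv (MulAction.toPerm g) _ _ fun c => Fintype.sum_equiv (MulAction.toPerm g) _ _ fun d => ?_
  rw [MulAction.toPerm_apply, MulAction.toPerm_apply, hπ, hπ]
  exact if_congr (by rw [hT, smul_left_cancel_iff, smul_left_cancel_iff]) rfl rfl

theorem sum_mm (π : C → X) (T : C → C → Prop) [DecidableRel T] (x : X) (f : X → ℂ) :
    ∑ y, mm π T x y * f y = ∑ c with π c = x, ∑ d with T c d, f (π d) := by
  classical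
  unfold mm
  simp only [Finset.sum_mul]
  rw [Finset.sum_comm, Finset.sum_filter]
  refine Finset.sum_congr rfl fun c _ => ?_
  rw [Finset.sum_comm]
  by_cases h1 : π c = x
  · rw [if_pos h1, Finset.sum_filter]
    refine Finset.sum_congr rfl fun d _ => ?_
    rw [Finset.sum_eq_single (π d)]
    · by_cases h2 : T c d
      · rw [if_pos h2, if_pos ⟨h1, rfl, h2⟩, one_mul]
      · rw [if_neg h2, if_neg fun h => h2 h.2.2, zero_mul]
    · intro y _ hy
      rw [if_neg fun h => hy h.2.1.symm, zero_mul]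
    · intro h
      exact absurd (Finset.mem_univ _) h
  · rw [if_neg h1]
    refine Finset.sum_eq_zero fun d _ => Finset.sum_eq_zero fun y _ => ?_
    rw [if_neg fun h => h1 h.1, zero_mul]

/-- **Constituents from left eigenvectors.** -/
theorem exists_of_left (π : C → X) (hπ : ∀ (g : G) (c : C), π (g • c) = g • π c) (hsur : Function.Surjective π)
    (T : C → C → Prop) [DecidableRel T] (hT : ∀ (g : G) (c d : C), T (g • c) (g • d) ↔ T c d)
    (hTs : ∀ c d, T c d → T d c) (x₀ : X) (htr : ∀ x : X, ∃ g : G, g • x₀ = x) {r : ℕ} (s : Fin r → X × X)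
    (hs : ∀ x y : X, ∃ i, ∃ g : G, g • (s i).1 = x ∧ g • (s i).2 = y) (cl : X → ℕ) (hclr : ∀ x, cl x < r)
    (hcl : ∀ (g : G) (x : X), g • x₀ = x₀ → cl (g • x) = cl x)
    (hcl' : ∀ x y : X, cl x = cl y → ∃ g : G, g • x₀ = x₀ ∧ g • x = y) (hcls : ∀ a < r, ∃ x, cl x = a)
    (α : ℕ → ℕ → ℂ) (hα : ∀ (x : X) (F : ℕ → ℂ), ∑ c with π c = x, ∑ d with T c d, F (cl (π d)) =
      ((Finset.univ.filter fun c => π c = x).card : ℂ) * ∑ b ∈ Finset.range r, α (cl x) b * F b)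
    (θ : Fin r → ℂ) (hθ : Function.Injective θ) (P : Fin r → ℕ → ℚ) (hP0 : ∀ i, P i (cl x₀) = 1)
    (hP : ∀ i, ∀ b < r, ∑ a ∈ Finset.range r, (P i a : ℂ) * α a b = θ i * P i b) :
    ∃ χ : Fin r → IrrCharacter G, Function.Injective χ ∧ (∀ i g, ∃ z : ℚ, (χ i : G → ℂ) g = z) ∧
      (∀ i, classInner (perm G X) (χ i : G → ℂ) = 1) ∧
      (∀ ψ : IrrCharacter G, classInner (perm G X) (ψ : G → ℂ) ≠ 0 → ∃ i, χ i = ψ) ∧
      (∀ a < r, ∑ i, (χ i : G → ℂ) 1 * P i a = if a = cl x₀ then (Nat.card X : ℂ) else 0) ∧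
      (∀ δ : Fin r → ℂ, (∀ a < r, ∑ i, δ i * P i a = 0) → ∀ i, δ i = 0) ∧
      ∀ (p : ℕ) (M : Ideal AlgInt), IsPModular p M → ∀ i j, (∀ a < r, ∃ z : ℤ, P i a - P j a = p * z) →
        SameBlock M (χ i : G → ℂ) (χ j : G → ℂ) := by
  classical
  let N : X → ℕ := fun x => (Finset.univ.filter fun c => π c = x).card
  have hN : ∀ (g : G) (x : X), N (g • x) = N x := by
    intro g x
    symm
    refine Finset.card_bij (fun c _ => g • c) (fun c hc => ?_) (fun c _ d _ h => smul_left_cancel g h) fun c hc => ?_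
    · rw [Finset.mem_filter] at hc ⊢
      exact ⟨Finset.mem_univ _, by rw [hπ, hc.2]⟩
    · rw [Finset.mem_filter] at hc
      refine ⟨g⁻¹ • c, Finset.mem_filter.2 ⟨Finset.mem_univ _, by rw [hπ, hc.2, inv_smul_smul]⟩, smul_inv_smul g c⟩
  have hN0 : (N x₀ : ℂ) ≠ 0 := by
    obtain ⟨c, hc⟩ := hsur x₀
    have h1 : 0 < N x₀ := Finset.card_pos.2 ⟨c, Finset.mem_filter.2 ⟨Finset.mem_univ _, hc⟩⟩
    exact_mod_cast h1.ne'
  have hNx : ∀ x, N x = N x₀ := by
    intro x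
    obtain ⟨g, rfl⟩ := htr x
    exact hN g x₀
  let A : Matrix X X ℂ := fun x y => mm π T x y / N x₀
  have hAs : ∀ x y, A x y = A y x := fun x y => by
    show mm π T x y / (N x₀ : ℂ) = mm π T y x / (N x₀ : ℂ)
    rw [mm_symm π hTs]
  have hAop : ∀ (x : X) (F : ℕ → ℂ), ∑ y, A x y * F (cl y) = ∑ b ∈ Finset.range r, α (cl x) b * F b := by
    intro x F
    have h1 : ∑ y, A x y * F (cl y) = (∑ y, mm π T x y * F (cl y)) / N x₀ := by
      rw [Finset.sum_div]
      exact Finset.sum_congr rfl fun y _ => by ring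
    rw [h1, sum_mm π T x (fun y => F (cl y)), hα x F]
    show (N x : ℂ) * _ / (N x₀ : ℂ) = _
    rw [hNx, mul_div_assoc, mul_comm, div_mul_cancel₀ _ hN0]
  let κ : ℕ → ℕ := fun a => (Finset.univ.filter fun x => cl x = a).card
  have hκ0 : ∀ a < r, (κ a : ℂ) ≠ 0 := by
    intro a ha
    obtain ⟨x, hx⟩ := hcls a ha
    have h1 : 0 < κ a := Finset.card_pos.2 ⟨x, Finset.mem_filter.2 ⟨Finset.mem_univ _, hx⟩⟩
    exact_mod_cast h1.ne'
  have hdc : ∀ a < r, ∀ b < r, (κ a : ℂ) * α a b = κ b * α b a := by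
    have key : ∀ a < r, ∀ b < r, (κ a : ℂ) * α a b = ∑ x with cl x = a, ∑ y with cl y = b, A x y := by
      intro a ha b hb
      have h1 : ∀ x, cl x = a → ∑ y with cl y = b, A x y = α a b := by
        intro x hx
        have h2 := hAop x (fun c => if c = b then 1 else 0)
        rw [Finset.sum_filter]
        simp only [mul_ite, mul_one, mul_zero] at h2
        rw [h2, hx, Finset.sum_ite_eq' (Finset.range r), if_pos (Finset.mem_range.2 hb)]
      rw [Finset.sum_congr rfl fun x hx => h1 x (Finset.mem_filter.1 hx).2, Finset.sum_const, nsmul_eq_mul]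
    intro a ha b hb
    rw [key a ha b hb, key b hb a ha, Finset.sum_comm]
    exact Finset.sum_congr rfl fun x _ => Finset.sum_congr rfl fun y _ => hAs _ _
  let v : Fin r → X → ℂ := fun i x => (P i (cl x) : ℂ) / κ (cl x)
  have hκx₀ : κ (cl x₀) = 1 := by
    show (Finset.univ.filter fun x => cl x = cl x₀).card = 1
    rw [Finset.card_eq_one]
    refine ⟨x₀, ?_⟩
    ext x
    rw [Finset.mem_filter, Finset.mem_singleton]
    constructor
    · rintro ⟨-, h⟩
      obtain ⟨g, hg, hg'⟩ := hcl' x₀ x h.symm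
      rw [← hg', hg]
    · rintro rfl
      exact ⟨Finset.mem_univ _, rfl⟩
  have H : Dat (G := G) s A θ v x₀ := by
    refine ⟨hs, fun g x y => ?_, hθ, fun i => ?_, fun i => ?_, fun i g hg x => ?_, htr⟩
    · show mm π T (g • x) (g • y) / (N x₀ : ℂ) = mm π T x y / (N x₀ : ℂ)
      rw [mm_inv π hπ hT]
    · funext x
      rw [Pi.smul_apply, smul_eq_mul]
      show ∑ y, A x y * ((P i (cl y) : ℂ) / κ (cl y)) = θ i * ((P i (cl x) : ℂ) / κ (cl x))
      rw [hAop x (fun b => (P i b : ℂ) / κ b), ← mul_div_assoc, ← hP i (cl x) (hclr x), Finset.sum_div]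
      refine Finset.sum_congr rfl fun b hb => ?_
      have hb' := Finset.mem_range.1 hb
      have h1 := hdc (cl x) (hclr x) b hb'
      have h2 := hκ0 b hb'
      have h3 := hκ0 (cl x) (hclr x)
      field_simp
      linear_combination (P i b : ℂ) * h1
    · show (P i (cl x₀) : ℂ) / κ (cl x₀) = 1
      rw [hP0, hκx₀]
      norm_num
    · show (P i (cl (g • x)) : ℂ) / κ (cl (g • x)) = (P i (cl x) : ℂ) / κ (cl x)
      rw [hcl g x hg]
  have hvr : ∀ i x, ∃ z : ℚ, v i x = z := fun i x => ⟨P i (cl x) / κ (cl x), by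
    show (P i (cl x) : ℂ) / κ (cl x) = _
    push_cast
    rfl⟩
  have hsumv : ∀ i, ∀ a < r, ∑ y with cl y = a, v i y = P i a := by
    intro i a ha
    rw [Finset.sum_congr rfl fun y hy => show v i y = (P i a : ℂ) / κ a by
      show (P i (cl y) : ℂ) / κ (cl y) = _
      rw [(Finset.mem_filter.1 hy).2], Finset.sum_const, nsmul_eq_mul]
    exact mul_div_cancel₀ _ (hκ0 a ha)
  obtain ⟨χ, h1, h2, h3, h4, h5, h6⟩ := H.exists_con_rat hvr
  refine ⟨χ, h1, h2, h3, h4, fun a ha => ?_, fun δ hδ => H.lin fun y => ?_, fun p M hM i j hij => ?_⟩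
  · obtain ⟨x, hx⟩ := hcls a ha
    have h7 := h6 x
    have h8 : ∑ i, (χ i : G → ℂ) 1 * P i a = κ a * ∑ i, (χ i : G → ℂ) 1 * v i x := by
      rw [Finset.mul_sum]
      refine Finset.sum_congr rfl fun i _ => ?_
      show _ = (κ a : ℂ) * ((χ i : G → ℂ) 1 * ((P i (cl x) : ℂ) / κ (cl x)))
      rw [hx]
      have := hκ0 a ha
      field_simp
    rw [h8, h7]
    by_cases h9 : a = cl x₀
    · rw [if_pos h9]
      have h10 : x = x₀ := by
        obtain ⟨g, hg, hg'⟩ := hcl' x₀ x (by rw [hx, h9])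
        rw [← hg', hg]
      rw [if_pos h10, h9, hκx₀]
      norm_num
    · rw [if_neg h9, if_neg, mul_zero]
      rintro rfl
      exact h9 hx.symm
  · have h7 := hδ (cl y) (hclr y)
    have h8 : ∑ i, δ i * v i y = (∑ i, δ i * P i (cl y)) / κ (cl y) := by
      rw [Finset.sum_div]
      exact Finset.sum_congr rfl fun i _ => by
        show δ i * ((P i (cl y) : ℂ) / κ (cl y)) = _
        ring
    rw [h8, h7, zero_div]
  · refine H.sameBlock hM (cl := fun x => (⟨cl x, hclr x⟩ : Fin r)) (fun x y h => hcl' x y (Fin.mk.inj_iff.1 h))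
      (i := i) (j := j) (χ i).2 (χ j).2 (h5 i) (h5 j) fun a => ?_
    obtain ⟨z, hz⟩ := hij a.val a.2
    refine ⟨z, ?_⟩
    have h7 : ∀ i, ∑ y with (⟨cl y, hclr y⟩ : Fin r) = a, v i y = P i a := by
      intro i
      rw [← hsumv i a.val a.2]
      refine Finset.sum_congr ?_ fun _ _ => rfl
      ext y
      rw [Finset.mem_filter, Finset.mem_filter, Fin.ext_iff]
    rw [h7, h7]
    have h8 := congrArg (fun y : ℚ => (y : ℂ)) hz
    push_cast at h8
    exact h8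

end

end

section Rgd

open CoxeterSystem Cfsg.Agent.ChevalleyStructure.CoxeterGeom Cfsg.Agent.Tits.Roots Cfsg.Agent.Tits.Core
  Cfsg.Agent.Tits.Exchange Cfsg.Agent.Nodes.Reps Cfsg.Agent.Nodes.BNOf Cfsg.Agent.Nodes.StabComb
  Cfsg.Agent.Nodes.Bruhat Cfsg.Agent.Nodes.LeviDec Cfsg.Agent.Nodes.NormalForm Cfsg.Agent.H116

/-- the neighbour operator on functions of the class -/
theorem sum_class {I W : Type*} [Fintype I] [DecidableEq I] [Group W] {M : CoxeterMatrix I}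
    {cs : CoxeterSystem M W} {C : Type*} (Δ : Bldg cs C) [DecidableEq W] [Fintype C] [DecidableEq C] {q : ℕ}
    (hq : ∀ x i, Nat.card {y // Δ.δ x y = cs.simple i} = q) {A : I → I → ℤ} (h : IsCartan M A) {k : I} {m r : ℕ}
    (D : WDat A k m r) {X : Type*} [DecidableEq X] (π : C → X) (e : C)
    (hπ : ∀ (c d : C) (j : I), j ≠ k → Δ.δ c d = cs.simple j → π c = π d)
    (hπ' : ∀ c d : C, π c = π d → Δ.δ c d ∈ WJ cs {j | j ≠ k}) (α : ℕ → ℕ → ℂ)
    (hα : ∀ (F : ℕ → ℂ), ∀ a < r, ∑ z ∈ Finset.range m with D.cl z = a,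
      (q : ℂ) ^ D.e z * opK D q k (fun z => F (D.cl z)) z =
        (∑ z ∈ Finset.range m with D.cl z = a, (q : ℂ) ^ D.e z) * ∑ b ∈ Finset.range r, α a b * F b)
    (c₀ : C) (F : ℕ → ℂ) :
    ∑ c with π c = π c₀, ∑ d with Δ.δ c d = cs.simple k, F (D.cl (D.idx cs h (Δ.δ d e))) =
      ((Finset.univ.filter fun c => π c = π c₀).card : ℂ) *
        ∑ b ∈ Finset.range r, α (D.cl (D.idx cs h (Δ.δ c₀ e))) b * F b := by
  set a := D.cl (D.idx cs h (Δ.δ c₀ e)) with ha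
  obtain ⟨N, hN⟩ := exists_const Δ hq h D π e hπ hπ' c₀
  have h1 : ∀ c, ∑ d with Δ.δ c d = cs.simple k, F (D.cl (D.idx cs h (Δ.δ d e))) =
      opK D q k (fun z => F (D.cl z)) (D.idx cs h (Δ.δ c e)) := by
    intro c
    rw [← L_idx h D, sum_nbr Δ hq (fun w => F (D.cl (D.idx cs h w)))]
  simp only [h1]
  have h2 := hN (opK D q k (fun z => F (D.cl z)))
  have h3 := hN (fun _ => 1)
  unfold SS at h2 h3
  rw [h2, hα F a (D.cl_lt _ (D.idx_lt cs h _))]
  rw [Finset.sum_const, nsmul_eq_mul, mul_one] at h3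
  simp only [mul_one] at h3
  rw [h3]
  ring

variable {I W : Type*} {Y : Type u} [Fintype I] [DecidableEq I] [Group W] [Group Y] {M : CoxeterMatrix I}
  {cs : CoxeterSystem M W} {A : I → I → ℤ} {h : IsCartan M A} {p : ℕ} {T : Subgroup Y} {n : I → Y}
  {X : (I → ℤ) → Subgroup Y}

/-- **The constituents of the permutation character of a maximal parabolic subgroup.** -/
theorem exists_rgd [Finite W] [Finite Y] [Fintype Y] (R : RGD cs h p T n X)
    (hgen : RGD.B cs h T X ⊔ NN cs R.nsys = ⊤) {q : ℕ} (hq : ∀ i, Nat.card (X (sr i)) = q) {k : I} {m r : ℕ}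
    (D : WDat A k m r) (α : ℕ → ℕ → ℂ)
    (hα : ∀ (F : ℕ → ℂ), ∀ a < r, ∑ z ∈ Finset.range m with D.cl z = a,
      (q : ℂ) ^ D.e z * opK D q k (fun z => F (D.cl z)) z =
        (∑ z ∈ Finset.range m with D.cl z = a, (q : ℂ) ^ D.e z) * ∑ b ∈ Finset.range r, α a b * F b)
    (θ : Fin r → ℂ) (hθ : Function.Injective θ) (P : Fin r → ℕ → ℚ) (hP0 : ∀ i, P i (D.cl D.b0) = 1)
    (hP : ∀ i, ∀ b < r, ∑ a ∈ Finset.range r, (P i a : ℂ) * α a b = θ i * P i b) :
    ∃ χ : Fin r → IrrCharacter Y, Function.Injective χ ∧ (∀ i g, ∃ z : ℚ, (χ i : Y → ℂ) g = z) ∧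
      (∀ i, classInner (perm Y (Y ⧸ PJ cs h T X {j | j ≠ k})) (χ i : Y → ℂ) = 1) ∧
      (∀ ψ : IrrCharacter Y, classInner (perm Y (Y ⧸ PJ cs h T X {j | j ≠ k})) (ψ : Y → ℂ) ≠ 0 → ∃ i, χ i = ψ) ∧
      (∀ a < r, ∑ i, (χ i : Y → ℂ) 1 * P i a =
        if a = D.cl D.b0 then ((PJ cs h T X {j | j ≠ k}).index : ℂ) else 0) ∧
      (∀ δ : Fin r → ℂ, (∀ a < r, ∑ i, δ i * P i a = 0) → ∀ i, δ i = 0) ∧
      ∀ (p : ℕ) (M : Ideal AlgInt), IsPModular p M → ∀ i j, (∀ a < r, ∃ z : ℤ, P i a - P j a = p * z) →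
        SameBlock M (χ i : Y → ℂ) (χ j : Y → ℂ) := by
  classical
  obtain ⟨B, hB⟩ : ∃ B, B = RGD.B cs h T X := ⟨_, rfl⟩
  have hex0 : ∃ Δ : Bldg cs (Y ⧸ RGD.B cs h T X),
      (∀ (g : Y) (x y : Y ⧸ RGD.B cs h T X), Δ.δ (g • x) (g • y) = Δ.δ x y) ∧
      (∀ (a b k : Y) (w : W), Rp cs R.nsys w k → (Δ.δ (QuotientGroup.mk a) (QuotientGroup.mk b) = w ↔
        ∃ b₁ ∈ RGD.B cs h T X, ∃ b₂ ∈ RGD.B cs h T X, a⁻¹ * b = b₁ * k * b₂)) ∧
      ∀ (x : Y ⧸ RGD.B cs h T X) (i : I), Nat.card {y // Δ.δ x y = cs.simple i} = q := by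
    obtain ⟨Δ, hiso, htr, hδ⟩ := H167.SteinbergRGD.exists_bldg R hgen
    exact ⟨Δ, hiso, hδ, fun x i => by rw [HeckeE.card_nbr R Δ hδ, hq]⟩
  rw [← hB] at hex0
  obtain ⟨Δ, hiso, hδ, hq'⟩ := hex0
  set P' := PJ cs h T X {j | j ≠ k} with hP'
  have hBP : B ≤ P' := by rw [hB]; exact B_le_PJ
  let _ : Fintype (Y ⧸ B) := Fintype.ofFinite _
  let _ : Fintype (Y ⧸ P') := Fintype.ofFinite _
  have hTB : T ≤ B := by rw [hB]; exact fun t ht => RGD.T_le_B ht
  have hcell : ∀ (a b : Y) (w : W), Δ.δ (QuotientGroup.mk a) (QuotientGroup.mk b) = w ↔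
      ∃ b₁ ∈ B, ∃ k', Rp cs R.nsys w k' ∧ ∃ b₂ ∈ B, a⁻¹ * b = b₁ * k' * b₂ := by
    intro a b w
    obtain ⟨kw, hkw⟩ := exists_rp cs R.nsys w
    rw [hδ a b kw w hkw]
    constructor
    · rintro ⟨b₁, h1, b₂, h2, e⟩
      exact ⟨b₁, h1, kw, hkw, b₂, h2, e⟩
    · rintro ⟨b₁, h1, k', hk', b₂, h2, e⟩
      refine ⟨b₁, h1, (kw⁻¹ * k') * b₂, mul_mem (hTB (hkw.unique hk')) h2, ?_⟩
      rw [e]
      group
  let π : Y ⧸ B → Y ⧸ P' := Subgroup.quotientMapOfLE hBP
  have hπmk : ∀ a : Y, π (QuotientGroup.mk a) = QuotientGroup.mk a := fun a => rfl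
  have hπg : ∀ (g : Y) (c : Y ⧸ B), π (g • c) = g • π c := by
    intro g c
    induction c using QuotientGroup.induction_on with
    | _ a => rfl
  have hsur : Function.Surjective π := by
    intro x
    induction x using QuotientGroup.induction_on with
    | _ a => exact ⟨QuotientGroup.mk a, rfl⟩
  have hπ : ∀ (c d : Y ⧸ B) (j : I), j ≠ k → Δ.δ c d = cs.simple j → π c = π d := by
    intro c d j hj hcd
    induction c using QuotientGroup.induction_on with
    | _ a =>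
    induction d using QuotientGroup.induction_on with
    | _ b =>
    rw [hπmk, hπmk, QuotientGroup.eq, hP', mem_PJ_iff_cell R]
    have h1 := (hcell a b _).1 hcd
    rw [hB] at h1
    exact ⟨_, Subgroup.subset_closure ⟨j, hj, rfl⟩, h1⟩
  have hπ' : ∀ c d : Y ⧸ B, π c = π d → Δ.δ c d ∈ WJ cs {j | j ≠ k} := by
    intro c d hcd
    induction c using QuotientGroup.induction_on with
    | _ a =>
    induction d using QuotientGroup.induction_on with
    | _ b =>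
    rw [hπmk, hπmk, QuotientGroup.eq, hP', mem_PJ_iff_cell R] at hcd
    obtain ⟨w, hw, hc⟩ := hcd
    rw [(hcell a b w).2 (by rw [hB]; exact hc)]
    exact hw
  set e : Y ⧸ B := QuotientGroup.mk 1 with he
  have hclπ : ∀ c d : Y ⧸ B, π c = π d → D.cl (D.idx cs h (Δ.δ c e)) = D.cl (D.idx cs h (Δ.δ d e)) := by
    intro c d hcd
    obtain ⟨u, hu, hu'⟩ := exists_mul_of_mem Δ (hπ' c d hcd) e
    rw [hu', D.cl_mul cs h hu]
  -- the classes
  choose sec hsec using hsur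
  let cl : (Y ⧸ P') → ℕ := fun x => D.cl (D.idx cs h (Δ.δ (sec x) e))
  have hclc : ∀ c, cl (π c) = D.cl (D.idx cs h (Δ.δ c e)) := by
    intro c
    show D.cl (D.idx cs h (Δ.δ (sec (π c)) e)) = _
    rw [hclπ _ c (hsec (π c))]
  set x₀ : Y ⧸ P' := QuotientGroup.mk 1 with hx₀
  have hx₀e : π e = x₀ := rfl
  have hclx₀ : cl x₀ = D.cl D.b0 := by
    rw [← hx₀e, hclc, Δ.δ_self, D.idx_one]
  -- representatives of the orbits
  have hex : ∀ a : Fin r, ∃ b : Y, ∃ w : W, Cell R.nsys cs h X w b ∧ D.cl (D.idx cs h w) = a := by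
    intro a
    obtain ⟨w, hw⟩ := D.exists_cl_eq cs h a.2
    obtain ⟨b, hb⟩ := exists_rp cs R.nsys w
    exact ⟨b, w, cell_of_rp hb, hw⟩
  choose b w₀ hbw hw₀ using hex
  -- elements with the same class
  have hdbl : ∀ (a a' : Y) (w w' : W), D.cl (D.idx cs h w) = D.cl (D.idx cs h w') →
      (∃ b₁ ∈ B, ∃ k', Rp cs R.nsys w k' ∧ ∃ b₂ ∈ B, a = b₁ * k' * b₂) →
      (∃ b₁ ∈ B, ∃ k', Rp cs R.nsys w' k' ∧ ∃ b₂ ∈ B, a' = b₁ * k' * b₂) →
      ∃ p₁ ∈ P', ∃ p₂ ∈ P', a' = p₁ * a * p₂ := by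
    rintro a a' w w' hw ⟨b₁, hb₁, kw, hkw, b₂, hb₂, e2⟩ ⟨c₁, hc₁, kw', hkw', c₂, hc₂, e3⟩
    obtain ⟨u, hu, u', hu', e1⟩ := D.double_coset cs h hw
    obtain ⟨ku, hku⟩ := exists_rp cs R.nsys u
    obtain ⟨ku', hku'⟩ := exists_rp cs R.nsys u'
    have hkuP : ku ∈ P' := by
      rw [hP', mem_PJ_iff_cell R]
      exact ⟨u, hu, cell_of_rp hku⟩
    have hkuP' : ku' ∈ P' := by
      rw [hP', mem_PJ_iff_cell R]
      exact ⟨u', hu', cell_of_rp hku'⟩
    have ht : (ku * kw * ku')⁻¹ * kw' ∈ T := by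
      have h3 := (hku.mul hkw).mul hku'
      rw [← e1] at h3
      exact h3.unique hkw'
    have htP : (ku * kw * ku')⁻¹ * kw' ∈ P' := hBP (hTB ht)
    refine ⟨c₁ * ku * b₁⁻¹, mul_mem (mul_mem (hBP hc₁) hkuP) (inv_mem (hBP hb₁)),
      b₂⁻¹ * ku' * ((ku * kw * ku')⁻¹ * kw') * c₂,
      mul_mem (mul_mem (mul_mem (inv_mem (hBP hb₂)) hkuP') htP) (hBP hc₂), ?_⟩
    rw [e2, e3]
    group
  have hex1 := exists_of_left (G := Y) (X := Y ⧸ P') (C := Y ⧸ B) π hπg (fun x => ⟨sec x, hsec x⟩)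
    (fun c d => Δ.δ c d = cs.simple k) (fun g c d => by rw [hiso]) (fun c d hcd => Δ.δ_symm_simple hcd) x₀
    (fun x => by
      induction x using QuotientGroup.induction_on with
      | _ a => exact ⟨a, by rw [hx₀]; show (QuotientGroup.mk (a * 1) : Y ⧸ P') = _; rw [mul_one]⟩)
    (fun a : Fin r => ((QuotientGroup.mk 1 : Y ⧸ P'), (QuotientGroup.mk (b a) : Y ⧸ P'))) ?_ cl
    (fun x => D.cl_lt _ (D.idx_lt cs h _)) ?_ ?_ ?_ α ?_ θ hθ P (fun i => by rw [hclx₀]; exact hP0 i) hP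
  · obtain ⟨χ, h1, h2, h3, h4, h5, h6, h7⟩ := hex1
    refine ⟨χ, h1, h2, h3, h4, fun a ha => ?_, h6, h7⟩
    rw [h5 a ha, hclx₀]
    rfl
  · intro x y
    induction x using QuotientGroup.induction_on with
    | _ a =>
    induction y using QuotientGroup.induction_on with
    | _ a' =>
    have h1 := (hcell a a' _).1 rfl
    set w := Δ.δ (QuotientGroup.mk a) (QuotientGroup.mk a') with hw
    let i : Fin r := ⟨D.cl (D.idx cs h w), D.cl_lt _ (D.idx_lt cs h w)⟩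
    have h2 : D.cl (D.idx cs h (w₀ i)) = D.cl (D.idx cs h w) := hw₀ i
    have h3 := hbw i
    obtain ⟨p₁, hp₁, p₂, hp₂, e1⟩ := hdbl (b i) (a⁻¹ * a') _ _ h2 (by rw [hB]; exact h3) h1
    refine ⟨i, a * p₁, ?_, ?_⟩
    · show (QuotientGroup.mk (a * p₁ * 1) : Y ⧸ P') = QuotientGroup.mk a
      rw [QuotientGroup.eq]
      have h4 : (a * p₁ * 1)⁻¹ * a = p₁⁻¹ := by group
      rw [h4]
      exact inv_mem hp₁
    · show (QuotientGroup.mk (a * p₁ * b i) : Y ⧸ P') = QuotientGroup.mk a'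
      rw [QuotientGroup.eq]
      have h4 : (a * p₁ * b i)⁻¹ * a' = (b i)⁻¹ * p₁⁻¹ * (a⁻¹ * a') := by group
      rw [h4, e1]
      have h5 : (b i)⁻¹ * p₁⁻¹ * (p₁ * b i * p₂) = p₂ := by group
      rw [h5]
      exact hp₂
  · intro g x hg
    have hgP : g ∈ P' := by
      have h1 : (QuotientGroup.mk (g * 1) : Y ⧸ P') = QuotientGroup.mk 1 := hg
      rw [mul_one, eq_comm, QuotientGroup.eq, inv_one, one_mul] at h1
      exact h1
    rw [← hsec x, ← hπg, hclc, hclc]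
    have h1 : Δ.δ (g • sec x) e = Δ.δ (sec x) (g⁻¹ • e) := by
      rw [← hiso g⁻¹, inv_smul_smul]
    have h2 : π (g⁻¹ • e) = π e := by
      rw [hπg, hx₀e, inv_smul_eq_iff, hg]
    obtain ⟨u, hu, hu'⟩ := exists_mul_of_mem Δ (hπ' _ _ h2) (sec x)
    have h3 : Δ.δ (sec x) (g⁻¹ • e) = Δ.δ (sec x) e * u⁻¹ := by
      rw [Δ.symm (g⁻¹ • e), hu', Δ.symm (sec x) e, _root_.mul_inv_rev, inv_inv]
    rw [h1, h3, D.idx_mul cs h (inv_mem hu)]
  · intro x y hxy
    induction x using QuotientGroup.induction_on with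
    | _ a =>
    induction y using QuotientGroup.induction_on with
    | _ a' =>
    rw [← hπmk a, ← hπmk a', hclc, hclc] at hxy
    have h1 := (hcell a 1 _).1 rfl
    have h2 := (hcell a' 1 _).1 rfl
    rw [mul_one] at h1 h2
    obtain ⟨p₁, hp₁, p₂, hp₂, e1⟩ := hdbl a⁻¹ a'⁻¹ _ _ hxy h1 h2
    refine ⟨p₂⁻¹, ?_, ?_⟩
    · show (QuotientGroup.mk (p₂⁻¹ * 1) : Y ⧸ P') = QuotientGroup.mk 1
      rw [QuotientGroup.eq]
      have h4 : (p₂⁻¹ * 1)⁻¹ * 1 = p₂ := by group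
      rw [h4]
      exact hp₂
    · show (QuotientGroup.mk (p₂⁻¹ * a) : Y ⧸ P') = QuotientGroup.mk a'
      rw [QuotientGroup.eq]
      have h4 : a' = p₂⁻¹ * a * p₁⁻¹ := by
        rw [← inv_inv a', e1]
        group
      have h5 : (p₂⁻¹ * a)⁻¹ * a' = p₁⁻¹ := by
        rw [h4]
        group
      rw [h5]
      exact inv_mem hp₁
  · intro a ha
    refine ⟨QuotientGroup.mk (b ⟨a, ha⟩)⁻¹, ?_⟩
    rw [← hπmk, hclc]
    have h2 : Δ.δ (QuotientGroup.mk (b ⟨a, ha⟩)⁻¹) e = w₀ ⟨a, ha⟩ := by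
      rw [he, hcell, inv_inv, mul_one, hB]
      exact hbw ⟨a, ha⟩
    rw [h2, hw₀]
  · intro x F
    have h1 := sum_class Δ hq' h D π e hπ hπ' α hα (sec x) F
    rw [hsec x] at h1
    simp only [hclc]
    exact h1

end Rgd

end Cfsg.Agent.H77.RK
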