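import Cfsg.Agent.H77.RK.Wts

/-!
# Tables of orbits of fundamental weights, checked by the kernel (helper77)

`Tab` : packed tables; `Tab.toWDat` : the structure `WDat` from a successful check.
-/

set_option autoImplicit false
set_option linter.unusedSectionVars false

namespace Cfsg.Agent.H77.RK

/-- `f i` for all `i < n` -/
noncomputable def allN (n : ℕ) (f : ℕ → Bool) : Bool := Nat.rec true (fun i acc => and (f i) acc) n

theorem allN_iff {n : ℕ} {f : ℕ → Bool} : allN n f = true ↔ ∀ i < n, f i = true := by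
  induction n with
  | zero => exact ⟨fun _ i hi => absurd hi (Nat.not_lt_zero i), fun _ => rfl⟩
  | succ n ih =>
    have h1 : allN (n + 1) f = (f n && allN n f) := rfl
    rw [h1, Bool.and_eq_true, ih]
    constructor
    · rintro ⟨h2, h3⟩ i hi
      rcases Nat.lt_succ_iff_lt_or_eq.1 hi with h4 | rfl
      · exact h3 i h4
      · exact h2
    · intro h2
      exact ⟨h2 n (Nat.lt_succ_self n), fun i hi => h2 i (Nat.lt_succ_of_lt hi)⟩

/-- some `f i` for `i < n` -/
noncomputable def anyN (n : ℕ) (f : ℕ → Bool) : Bool := Nat.rec false (fun i acc => or (f i) acc) n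

theorem anyN_iff {n : ℕ} {f : ℕ → Bool} : anyN n f = true ↔ ∃ i < n, f i = true := by
  induction n with
  | zero => exact ⟨fun h => absurd (show false = true from h) (by decide),
      fun ⟨i, hi, _⟩ => absurd hi (Nat.not_lt_zero i)⟩
  | succ n ih =>
    have h1 : anyN (n + 1) f = (f n || anyN n f) := rfl
    rw [h1, Bool.or_eq_true, ih]
    constructor
    · rintro (h2 | ⟨i, hi, h3⟩)
      · exact ⟨n, Nat.lt_succ_self n, h2⟩
      · exact ⟨i, Nat.lt_succ_of_lt hi, h3⟩
    · rintro ⟨i, hi, h3⟩
      rcases Nat.lt_succ_iff_lt_or_eq.1 hi with h4 | rfl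
      · exact Or.inr ⟨i, h4, h3⟩
      · exact Or.inl h3

/-- a digit of a packed table -/
def dg (N s w : ℕ) : ℕ := Nat.mod (Nat.shiftRight N s) w

/-- packed tables: `cd` the coordinates plus 8 (4 bits each), `nbT` the reflections (12 bits each), `clT` the classes
(4 bits), `eeT` the lengths (6 bits), `cn` minus the Cartan integers (2 bits) -/
structure Tab where
  l : ℕ
  m : ℕ
  r : ℕ
  k : ℕ
  b0 : ℕ
  cn : ℕ
  cd : ℕ
  nbT : ℕ
  clT : ℕ
  eeT : ℕ
  root : List ℕ
  path : List (List ℕ)

namespace Tab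

variable (t : Tab)

def d (z i : ℕ) : ℕ := dg t.cd (Nat.mul 4 (Nat.add (Nat.mul t.l z) i)) 16
def nb (z i : ℕ) : ℕ := dg t.nbT (Nat.mul 12 (Nat.add (Nat.mul t.l z) i)) 4096
def cl (z : ℕ) : ℕ := dg t.clT (Nat.mul 4 z) 16
def ee (z : ℕ) : ℕ := dg t.eeT (Nat.mul 6 z) 64
def cnN (i j : ℕ) : ℕ := dg t.cn (Nat.mul 2 (Nat.add (Nat.mul t.l i) j)) 4
def rootN (a : ℕ) : ℕ := t.root.getD a 0

/-- the Cartan matrix -/
def A (i j : Fin t.l) : ℤ := if i = j then 2 else -(t.cnN i.val j.val : ℤ)

/-- the check of the entry `z` -/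
noncomputable def chkZ (z : ℕ) : Bool :=
  and (allN t.l fun i =>
    and (Nat.blt (t.nb z i) t.m) (and (Nat.beq (t.nb (t.nb z i) i) z) (and
      (allN t.l fun j => cond (Nat.beq i j) (Nat.beq (Nat.add (t.d (t.nb z i) j) (t.d z i)) 16)
        (Nat.beq (Nat.add (t.d (t.nb z i) j) (Nat.mul 8 (t.cnN i j)))
          (Nat.add (t.d z j) (Nat.mul (t.cnN i j) (t.d z i)))))
      (or (Nat.beq i t.k) (and (Nat.beq (t.cl (t.nb z i)) (t.cl z)) (or (Nat.ble (t.d z i) 8)
        (Nat.beq (t.ee (t.nb z i)) (Nat.succ (t.ee z)))))))))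
  (and (Nat.blt (t.cl z) t.r) (cond (Nat.beq (t.ee z) 0) (Nat.beq z (t.rootN (t.cl z)))
    (anyN t.l fun i => and (not (Nat.beq i t.k)) (Nat.blt (t.d z i) 8))))

/-- the check of the class `a` -/
noncomputable def chkA (a : ℕ) : Bool :=
  and (Nat.beq (t.cl (t.rootN a)) a) (and (Nat.beq ((t.path.getD a []).foldl t.nb t.b0) (t.rootN a))
    (and ((t.path.getD a []).all fun i => Nat.blt i t.l)
      (allN t.r fun b => or (Nat.beq a b) (anyN t.l fun i => not (Nat.beq (t.d (t.rootN a) i) (t.d (t.rootN b) i))))))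

/-- the check of the base entry -/
noncomputable def chkB : Bool :=
  and (Nat.blt t.b0 t.m) (and (Nat.blt t.k t.l)
    (allN t.l fun i => Nat.beq (t.d t.b0 i) (cond (Nat.beq i t.k) 9 8)))

theorem nat_beq {a b : ℕ} : Nat.beq a b = true ↔ a = b := Nat.beq_eq ▸ Iff.rfl

theorem nat_blt {a b : ℕ} : Nat.blt a b = true ↔ a < b := by
  unfold Nat.blt
  rw [Nat.ble_eq]
  exact Iff.rfl

theorem nat_ble {a b : ℕ} : Nat.ble a b = true ↔ a ≤ b := by rw [Nat.ble_eq]

variable {t} in
/-- **the table is correct** -/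
noncomputable def toWDat (hk : t.k < t.l) (hB : t.chkB = true) (hA : ∀ a < t.r, t.chkA a = true)
    (hZ : ∀ z < t.m, t.chkZ z = true) : WDat t.A (⟨t.k, hk⟩ : Fin t.l) t.m t.r where
  wt z i := (t.d z i.val : ℤ) - 8
  nb z i := t.nb z i.val
  cl := t.cl
  e := t.ee
  b0 := t.b0
  root := t.rootN
  path a := if h : t.chkA a = true then
      (t.path.getD a []).pmap (fun i hi => (⟨i, hi⟩ : Fin t.l)) (by
        intro i hi
        unfold chkA at h
        simp only [Bool.and_eq_true, List.all_eq_true] at h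
        exact nat_blt.1 (h.2.2.1 i hi))
    else []
  b0_lt := by
    unfold chkB at hB
    simp only [Bool.and_eq_true] at hB
    exact nat_blt.1 hB.1
  nb_lt z hz i := by
    have h := hZ z hz
    unfold chkZ at h
    simp only [Bool.and_eq_true, allN_iff] at h
    exact nat_blt.1 (h.1 i.val i.2).1
  cl_lt z hz := by
    have h := hZ z hz
    unfold chkZ at h
    simp only [Bool.and_eq_true, allN_iff] at h
    exact nat_blt.1 h.2.1
  wt_b0 i hi := by
    unfold chkB at hB
    simp only [Bool.and_eq_true, allN_iff] at hB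
    have h1 := nat_beq.1 (hB.2.2 i.val i.2)
    have h2 : Nat.beq i.val t.k = false := by
      rw [Bool.eq_false_iff]
      intro h3
      exact hi (Fin.ext (nat_beq.1 h3))
    rw [h2] at h1
    rw [h1]
    rfl
  wt_b0' := by
    unfold chkB at hB
    simp only [Bool.and_eq_true, allN_iff] at hB
    have h1 := nat_beq.1 (hB.2.2 t.k hk)
    rw [nat_beq.2 rfl] at h1
    rw [h1]
    rfl
  wt_nb z hz i j := by
    have h := hZ z hz
    unfold chkZ at h
    simp only [Bool.and_eq_true, allN_iff] at h
    have h1 := (h.1 i.val i.2).2.2.1 j.val j.2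
    unfold A
    by_cases hij : i = j
    · subst hij
      rw [nat_beq.2 rfl] at h1
      have h2 := nat_beq.1 h1
      have h3 : t.d (t.nb z i.val) i.val + t.d z i.val = 16 := h2
      rw [if_pos rfl]
      omega
    · have h4 : Nat.beq i.val j.val = false := by
        rw [Bool.eq_false_iff]
        intro h3
        exact hij (Fin.ext (nat_beq.1 h3))
      rw [h4] at h1
      have h2 : t.d (t.nb z i.val) j.val + 8 * t.cnN i.val j.val =
        t.d z j.val + t.cnN i.val j.val * t.d z i.val := nat_beq.1 h1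
      rw [if_neg hij]
      have h3 : ((t.d (t.nb z i.val) j.val : ℕ) : ℤ) + 8 * (t.cnN i.val j.val : ℤ) =
        (t.d z j.val : ℤ) + (t.cnN i.val j.val : ℤ) * (t.d z i.val : ℤ) := by exact_mod_cast h2
      linear_combination h3
  nb_nb z hz i := by
    have h := hZ z hz
    unfold chkZ at h
    simp only [Bool.and_eq_true, allN_iff] at h
    exact nat_beq.1 (h.1 i.val i.2).2.1
  cl_nb z hz i hi := by
    have h := hZ z hz
    unfold chkZ at h
    simp only [Bool.and_eq_true, allN_iff, Bool.or_eq_true] at h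
    rcases (h.1 i.val i.2).2.2.2 with h1 | h1
    · exact absurd (Fin.ext (nat_beq.1 h1)) hi
    · exact nat_beq.1 h1.1
  e_nb z hz i hi hp := by
    have h := hZ z hz
    unfold chkZ at h
    simp only [Bool.and_eq_true, allN_iff, Bool.or_eq_true] at h
    rcases (h.1 i.val i.2).2.2.2 with h1 | h1
    · exact absurd (Fin.ext (nat_beq.1 h1)) hi
    · rcases h1.2 with h2 | h2
      · have h3 := nat_ble.1 h2
        omega
      · exact nat_beq.1 h2
  desc z hz he := by
    have h := hZ z hz
    unfold chkZ at h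
    simp only [Bool.and_eq_true, allN_iff] at h
    have h1 := h.2.2
    have h2 : Nat.beq (t.ee z) 0 = false := by
      rw [Bool.eq_false_iff]
      intro h3
      exact he (nat_beq.1 h3)
    rw [h2] at h1
    obtain ⟨i, hi, h3⟩ := anyN_iff.1 h1
    rw [Bool.and_eq_true, Bool.not_eq_true', nat_blt] at h3
    refine ⟨⟨i, hi⟩, fun h4 => ?_, by have := h3.2; dsimp only; omega⟩
    have h5 : i = t.k := congrArg Fin.val h4
    rw [nat_beq.2 h5] at h3
    exact absurd h3.1 (by decide)
  root_eq z hz he := by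
    have h := hZ z hz
    unfold chkZ at h
    simp only [Bool.and_eq_true, allN_iff] at h
    have h1 := h.2.2
    rw [nat_beq.2 he] at h1
    exact nat_beq.1 h1
  root_inj a ha b hb hab := by
    have h := hA a ha
    unfold chkA at h
    simp only [Bool.and_eq_true, allN_iff, Bool.or_eq_true, anyN_iff] at h
    rcases h.2.2.2 b hb with h1 | ⟨i, hi, h1⟩
    · exact nat_beq.1 h1
    · exfalso
      have h2 := hab ⟨i, hi⟩
      have h3 : t.d (t.rootN a) i = t.d (t.rootN b) i := by
        dsimp only at h2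
        omega
      rw [nat_beq.2 h3] at h1
      exact absurd h1 (by decide)
  path_eq a ha := by
    have h := hA a ha
    rw [dif_pos h]
    have h' := h
    unfold chkA at h
    simp only [Bool.and_eq_true] at h
    refine Eq.trans ?_ (nat_beq.1 h.2.1)
    have key : ∀ (L : List ℕ) (hL : ∀ i ∈ L, i < t.l) (z : ℕ),
        (L.pmap (fun i hi => (⟨i, hi⟩ : Fin t.l)) hL).foldl (fun z i => t.nb z i.val) z = L.foldl t.nb z := by
      intro L
      induction L with
      | nil => exact fun _ _ => rfl
      | cons i L ih =>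
        intro hL z
        rw [List.pmap_cons, List.foldl_cons, List.foldl_cons, ih]
    exact key _ _ _
  cl_root a ha := by
    have h := hA a ha
    unfold chkA at h
    simp only [Bool.and_eq_true] at h
    exact nat_beq.1 h.1

end Tab

end Cfsg.Agent.H77.RK
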