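import Cfsg.Agent.H554.RGIdx

/-!
# The orbit of a fundamental weight (helper77)

`evw w i` = the coordinates of `w ω_k`. `WDat A k m r` : a table of the orbit `W ω_k` with the orbits of `W_J`,
`J` = all nodes but `k`.
-/

set_option autoImplicit false
set_option linter.unusedSectionVars false

namespace Cfsg.Agent.H77.RK

open CoxeterSystem Cfsg.Agent.ChevalleyStructure.CoxeterGeom Cfsg.Agent.Tits.Roots Cfsg.Agent.Tits.Core
  Cfsg.Agent.Tits.Exchange Cfsg.Agent.Nodes.StabComb Cfsg.Agent.Nodes.NormalForm Cfsg.Agent.H554.RG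

/-- a table of the orbit of the fundamental weight `k` -/
structure WDat {I : Type*} (A : I → I → ℤ) (k : I) (m r : ℕ) where
  wt : ℕ → I → ℤ
  nb : ℕ → I → ℕ
  cl : ℕ → ℕ
  e : ℕ → ℕ
  b0 : ℕ
  root : ℕ → ℕ
  b0_lt : b0 < m
  nb_lt : ∀ z < m, ∀ i, nb z i < m
  cl_lt : ∀ z < m, cl z < r
  wt_b0 : ∀ i, i ≠ k → wt b0 i = 0
  wt_b0' : wt b0 k = 1
  wt_nb : ∀ z < m, ∀ i j, wt (nb z i) j = wt z j - A i j * wt z i
  nb_nb : ∀ z < m, ∀ i, nb (nb z i) i = z
  cl_nb : ∀ z < m, ∀ i, i ≠ k → cl (nb z i) = cl z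
  e_nb : ∀ z < m, ∀ i, i ≠ k → 0 < wt z i → e (nb z i) = e z + 1
  desc : ∀ z < m, e z ≠ 0 → ∃ i, i ≠ k ∧ wt z i < 0
  root_eq : ∀ z < m, e z = 0 → z = root (cl z)
  root_inj : ∀ a < r, ∀ b < r, (∀ i, wt (root a) i = wt (root b) i) → a = b
  path : ℕ → List I
  path_eq : ∀ a < r, (path a).foldl nb b0 = root a
  cl_root : ∀ a < r, cl (root a) = a

variable {I W : Type*} [Fintype I] [DecidableEq I] [Group W] {M : CoxeterMatrix I}
  (cs : CoxeterSystem M W) {A : I → I → ℤ} (h : IsCartan M A) {k : I}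

/-- the coordinates of `w ω_k` -/
def evw (k : I) (w : W) (i : I) : ℤ := rep cs h w⁻¹ (sr i) k

theorem evw_one (i : I) : evw cs h k 1 i = if i = k then 1 else 0 := by
  unfold evw
  rw [inv_one, map_one, Module.End.one_apply]
  by_cases hi : i = k
  · rw [if_pos hi, hi, sr_self]
  · rw [if_neg hi, sr_ne fun h => hi h.symm]

theorem pairing_sr (i j : I) : pairing A i (sr j) = A i j := by
  rw [sr, pairing_single, mul_one]

theorem evw_simple_mul (w : W) (i j : I) :
    evw cs h k (cs.simple i * w) j = evw cs h k w j - A i j * evw cs h k w i := by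
  unfold evw
  have h1 : rep cs h (cs.simple i * w)⁻¹ (sr j) = rep cs h w⁻¹ (rep cs h (cs.simple i) (sr j)) := by
    rw [mul_inv_rev, cs.inv_simple, rep_mul_apply]
  rw [h1, rep_simple_eq, pairing_sr, map_sub, map_smul, Pi.sub_apply, Pi.smul_apply, smul_eq_mul]

theorem length_of_pos {w : W} {i : I} (hp : 0 < evw cs h k w i) : cs.length w < cs.length (cs.simple i * w) := by
  have h1 := (lt_iff' cs h w⁻¹ i)
  rw [← cs.length_inv w, ← cs.length_inv (cs.simple i * w), mul_inv_rev, cs.inv_simple, h1]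
  have h2 : IsRoot cs h (rep cs h w⁻¹ (sr i)) := (isRoot_sr cs h i).act _
  rcases h2.pos_or_neg with h3 | h3
  · exact h3
  · have h4 := h3 k
    exact absurd hp (not_lt.2 h4)

theorem length_of_neg {w : W} {i : I} (hn : evw cs h k w i < 0) : cs.length (cs.simple i * w) < cs.length w := by
  have h1 := (lt_iff cs h w⁻¹ i)
  rw [← cs.length_inv w, ← cs.length_inv (cs.simple i * w), mul_inv_rev, cs.inv_simple, h1]
  have h2 : IsRoot cs h (rep cs h w⁻¹ (sr i)) := (isRoot_sr cs h i).act _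
  rcases h2.pos_or_neg with h3 | h3
  · have h4 := h3 k
    exact absurd hn (not_lt.2 h4)
  · exact h3

/-- elements of `W_J` do not change the coefficient at `k` -/
theorem rep_apply_k {J : Set I} (hk : k ∉ J) {u : W} (hu : u ∈ WJ cs J) (x : I → ℤ) : rep cs h u x k = x k := by
  induction hu using Subgroup.closure_induction generalizing x with
  | mem u hu =>
    obtain ⟨i, hi, rfl⟩ := hu
    exact rep_simple_apply cs h i x k fun e => hk (e ▸ hi)
  | one => rw [map_one, Module.End.one_apply]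
  | mul u v _ _ hu hv => rw [rep_mul_apply, hu, hv]
  | inv u _ hu =>
    have h1 := hu (rep cs h u⁻¹ x)
    rw [rep_apply_inv] at h1
    exact h1.symm

/-- the stabilizer of the fundamental weight is `W_J` -/
theorem mem_WJ_of_evw {w : W} (hw : ∀ i, evw cs h k w i = evw cs h k 1 i) : w ∈ WJ cs {j | j ≠ k} := by
  obtain ⟨v, hv, u, hu, rfl⟩ := exists_isMinR cs {j | j ≠ k} w
  have h1 : ∀ i, evw cs h k v i = evw cs h k 1 i := by
    intro i
    rw [← hw i]
    unfold evw
    rw [mul_inv_rev, rep_mul_apply, rep_apply_k cs h (J := {j | j ≠ k}) (by simp) (inv_mem hu)]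
  have hv1 : v = 1 := by
    rw [← inv_eq_one]
    apply eq_one_of_nonneg cs h
    intro i
    have h2 : IsRoot cs h (rep cs h v⁻¹ (sr i)) := (isRoot_sr cs h i).act _
    by_contra hcon
    have h3 : rep cs h v⁻¹ (sr i) ≤ 0 := h2.not_nonneg_iff.1 hcon
    obtain ⟨-, -, j, hj, hj0⟩ := neg_mem_NotJ (h := h) hv (x := sr i) ⟨isRoot_sr cs h i, sr_nonneg i, h3⟩
    have hjk : j = k := by simpa using hj
    subst hjk
    have h4 := h1 i
    rw [evw_one] at h4
    rw [Pi.neg_apply] at hj0
    unfold evw at h4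
    split_ifs at h4 <;> omega
  rw [hv1, one_mul]
  exact hu

namespace WDat

variable {m r : ℕ} (D : WDat A k m r)

include h in
theorem A_self (i : I) : A i i = 2 := h.diag i

include h in
/-- different entries are different weights -/
theorem inj : ∀ n z z' : ℕ, z < m → z' < m → D.e z = n → (∀ i, D.wt z i = D.wt z' i) → z = z' := by
  have key : ∀ z < m, ∀ i, i ≠ k → D.wt z i < 0 → D.e z = D.e (D.nb z i) + 1 := by
    intro z hz i hi hn
    have h1 := D.wt_nb z hz i i
    rw [A_self h] at h1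
    have h2 := D.e_nb (D.nb z i) (D.nb_lt z hz i) i hi (by omega)
    rwa [D.nb_nb z hz] at h2
  intro n
  induction n with
  | zero =>
    intro z z' hz hz' he hw
    have he' : D.e z' = 0 := by
      by_contra hcon
      obtain ⟨i, hi, hn⟩ := D.desc z' hz' hcon
      have := key z hz i hi (by rw [hw]; exact hn)
      omega
    have h1 := D.root_eq z hz he
    have h2 := D.root_eq z' hz' he'
    have h3 := D.root_inj _ (D.cl_lt z hz) _ (D.cl_lt z' hz') (by rw [← h1, ← h2]; exact hw)
    rw [h1, h2, h3]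
  | succ n ih =>
    intro z z' hz hz' he hw
    obtain ⟨i, hi, hn⟩ := D.desc z hz (by omega)
    have h1 := key z hz i hi hn
    have h2 := ih (D.nb z i) (D.nb z' i) (D.nb_lt z hz i) (D.nb_lt z' hz' i) (by omega) (fun j => by
      rw [D.wt_nb z hz, D.wt_nb z' hz', hw, hw])
    rw [← D.nb_nb z hz i, h2, D.nb_nb z' hz' i]

include h in
theorem eq_of_wt {z z' : ℕ} (hz : z < m) (hz' : z' < m) (hw : ∀ i, D.wt z i = D.wt z' i) : z = z' :=
  D.inj h _ z z' hz hz' rfl hw

theorem exists_idx (w : W) : ∃ z < m, ∀ i, D.wt z i = evw cs h k w i := by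
  induction w using cs.simple_induction_left with
  | one =>
    refine ⟨D.b0, D.b0_lt, fun i => ?_⟩
    rw [evw_one]
    split_ifs with hi
    · rw [hi, D.wt_b0']
    · exact D.wt_b0 i hi
  | mul_simple_left w i ih =>
    obtain ⟨z, hz, hw⟩ := ih
    exact ⟨D.nb z i, D.nb_lt z hz i, fun j => by rw [evw_simple_mul, D.wt_nb z hz, hw, hw]⟩

/-- the index of `w ω_k` -/
noncomputable def idx (w : W) : ℕ := (D.exists_idx cs h w).choose

theorem idx_lt (w : W) : D.idx cs h w < m := (D.exists_idx cs h w).choose_spec.1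

theorem wt_idx (w : W) (i : I) : D.wt (D.idx cs h w) i = evw cs h k w i := (D.exists_idx cs h w).choose_spec.2 i

theorem idx_simple_mul (w : W) (i : I) : D.idx cs h (cs.simple i * w) = D.nb (D.idx cs h w) i := by
  refine D.eq_of_wt h (D.idx_lt cs h _) (D.nb_lt _ (D.idx_lt cs h w) i) fun j => ?_
  rw [D.wt_idx, evw_simple_mul, D.wt_nb _ (D.idx_lt cs h w), D.wt_idx, D.wt_idx]

include h in
theorem nb_of_zero {z : ℕ} (hz : z < m) {i : I} (h0 : D.wt z i = 0) : D.nb z i = z :=
  D.eq_of_wt h (D.nb_lt z hz i) hz fun j => by rw [D.wt_nb z hz, h0, mul_zero, sub_zero]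

/-- the class is invariant under `W_J` -/
theorem cl_mul {u : W} (hu : u ∈ WJ cs {j | j ≠ k}) (w : W) : D.cl (D.idx cs h (u * w)) = D.cl (D.idx cs h w) := by
  induction hu using Subgroup.closure_induction generalizing w with
  | mem u hu =>
    obtain ⟨i, hi, rfl⟩ := hu
    rw [D.idx_simple_mul, D.cl_nb _ (D.idx_lt cs h w) i hi]
  | one => rw [one_mul]
  | mul u v _ _ hu hv => rw [mul_assoc, hu, hv]
  | inv u _ hu =>
    have h1 := hu (u⁻¹ * w)
    rw [mul_inv_cancel_left] at h1
    exact h1.symm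

/-- the class is invariant under multiplication from the right -/
theorem idx_mul {u : W} (hu : u ∈ WJ cs {j | j ≠ k}) (w : W) : D.idx cs h (w * u) = D.idx cs h w := by
  refine D.eq_of_wt h (D.idx_lt cs h _) (D.idx_lt cs h w) fun i => ?_
  rw [D.wt_idx, D.wt_idx]
  unfold evw
  rw [mul_inv_rev, rep_mul_apply, rep_apply_k cs h (J := {j | j ≠ k}) (by simp) (inv_mem hu)]

/-- two elements with the same class are in the same double coset of `W_J` -/
theorem double_coset {w w' : W} (hw : D.cl (D.idx cs h w) = D.cl (D.idx cs h w')) :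
    ∃ u ∈ WJ cs {j | j ≠ k}, ∃ v ∈ WJ cs {j | j ≠ k}, w' = u * w * v := by
  have key : ∀ (n : ℕ) (w : W), D.e (D.idx cs h w) = n → ∃ u ∈ WJ cs {j | j ≠ k}, D.e (D.idx cs h (u * w)) = 0 := by
    intro n
    induction n with
    | zero => exact fun w he => ⟨1, one_mem _, by rw [one_mul]; exact he⟩
    | succ n ih =>
      intro w he
      have hlt := D.idx_lt cs h w
      obtain ⟨i, hi, hn⟩ := D.desc _ hlt (by omega)
      have h1 := D.wt_nb _ hlt i i
      rw [A_self h] at h1
      have h2 := D.e_nb (D.nb (D.idx cs h w) i) (D.nb_lt _ hlt i) i hi (by omega)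
      rw [D.nb_nb _ hlt] at h2
      obtain ⟨u, hu, hu0⟩ := ih (cs.simple i * w) (by rw [D.idx_simple_mul]; omega)
      exact ⟨u * cs.simple i, mul_mem hu (Subgroup.subset_closure ⟨i, hi, rfl⟩), by rw [mul_assoc]; exact hu0⟩
  obtain ⟨u, hu, hu0⟩ := key _ w rfl
  obtain ⟨u', hu', hu0'⟩ := key _ w' rfl
  have h1 : D.idx cs h (u * w) = D.idx cs h (u' * w') := by
    rw [D.root_eq _ (D.idx_lt cs h _) hu0, D.root_eq _ (D.idx_lt cs h _) hu0', D.cl_mul cs h hu, D.cl_mul cs h hu', hw]
  have h2 : (u * w)⁻¹ * (u' * w') ∈ WJ cs {j | j ≠ k} := by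
    apply mem_WJ_of_evw cs h
    have h3 : ∀ i, evw cs h k (u * w) i = evw cs h k (u' * w') i := fun i => by
      rw [← D.wt_idx, ← D.wt_idx, h1]
    have h4 : ∀ x : I → ℤ, rep cs h (u * w)⁻¹ x k = rep cs h (u' * w')⁻¹ x k := by
      intro x
      rw [eq_sum_sr x, map_sum, map_sum, Finset.sum_apply, Finset.sum_apply]
      refine Finset.sum_congr rfl fun i _ => ?_
      rw [map_smul, map_smul, Pi.smul_apply, Pi.smul_apply]
      congr 1
      exact h3 i
    intro i
    unfold evw
    rw [mul_inv_rev, inv_inv, rep_mul_apply, ← h4, rep_inv_apply, inv_one, map_one, Module.End.one_apply]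
  refine ⟨u'⁻¹ * u, mul_mem (inv_mem hu') hu, (u * w)⁻¹ * (u' * w'), h2, ?_⟩
  group

theorem idx_one : D.idx cs h 1 = D.b0 := by
  refine D.eq_of_wt h (D.idx_lt cs h _) D.b0_lt fun i => ?_
  rw [D.wt_idx, evw_one]
  split_ifs with hi
  · rw [hi, D.wt_b0']
  · rw [D.wt_b0 i hi]

/-- all entries of the table are in the orbit -/
theorem exists_idx_eq {z : ℕ} (hz : z < m) : ∃ w, D.idx cs h w = z := by
  have hfold : ∀ (l : List I) (w : W), ∃ w', D.idx cs h w' = l.foldl D.nb (D.idx cs h w) := by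
    intro l
    induction l with
    | nil => exact fun w => ⟨w, rfl⟩
    | cons i l ih =>
      intro w
      rw [List.foldl_cons, ← D.idx_simple_mul]
      exact ih _
  have key : ∀ (n z : ℕ), z < m → D.e z = n → ∃ w, D.idx cs h w = z := by
    intro n
    induction n with
    | zero =>
      intro z hz he
      obtain ⟨w, hw⟩ := hfold (D.path (D.cl z)) 1
      rw [idx_one, D.path_eq _ (D.cl_lt z hz), ← D.root_eq z hz he] at hw
      exact ⟨w, hw⟩
    | succ n ih =>
      intro z hz he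
      obtain ⟨i, hi, hn⟩ := D.desc z hz (by omega)
      have h1 := D.wt_nb z hz i i
      rw [A_self h] at h1
      have h2 := D.e_nb (D.nb z i) (D.nb_lt z hz i) i hi (by omega)
      rw [D.nb_nb z hz] at h2
      obtain ⟨w, hw⟩ := ih (D.nb z i) (D.nb_lt z hz i) (by omega)
      exact ⟨cs.simple i * w, by rw [idx_simple_mul, hw, D.nb_nb z hz]⟩
  exact key _ z hz rfl

theorem root_lt {a : ℕ} (ha : a < r) : D.root a < m := by
  have key : ∀ (l : List I) (z : ℕ), z < m → l.foldl D.nb z < m := by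
    intro l
    induction l with
    | nil => exact fun z hz => hz
    | cons i l ih =>
      intro z hz
      rw [List.foldl_cons]
      exact ih _ (D.nb_lt z hz i)
  rw [← D.path_eq a ha]
  exact key _ _ D.b0_lt

theorem exists_cl_eq {a : ℕ} (ha : a < r) : ∃ w, D.cl (D.idx cs h w) = a := by
  obtain ⟨w, hw⟩ := D.exists_idx_eq cs h (D.root_lt ha)
  exact ⟨w, by rw [hw, D.cl_root a ha]⟩

end WDat

end Cfsg.Agent.H77.RK
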